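import Mathlib
import Groth.Prelude.Def_Found
import Groth.Agent.Lib.Helper18.Epp.N2

/-! # Global bounds for the integral closure in `L ⊗[K] K₂`, `K₂ = K₁(a^{1/p})` -/

set_option autoImplicit false
set_option linter.style.haveILetI false

namespace Groth.Agent.Lib.Helper18.SepSol

open Polynomial IsLocalRing TensorProduct

universe u

section Generic

/-- In an algebra over a discrete valuation ring, an algebraic element becomes integral after
multiplication by a power of the uniformizer. -/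
theorem exists_pow_smul_integral {B M' : Type*} [CommRing B] [IsDomain B]
    [IsDiscreteValuationRing B] [CommRing M'] [Algebra B M'] {πB : B} (hπB : Irreducible πB)
    {z : M'} (hz : IsAlgebraic B z) : ∃ m : ℕ, IsIntegral B (πB ^ m • z) := by
  obtain ⟨y, hy0, hy⟩ := hz.exists_integral_multiple
  obtain ⟨m, u, hu⟩ := IsDiscreteValuationRing.eq_unit_mul_pow_irreducible hy0 hπB
  refine ⟨m, ?_⟩
  have : πB ^ m • z = ((u⁻¹ : Bˣ) : B) • (y • z) := by
    rw [smul_smul, hu, ← mul_assoc, Units.inv_mul, one_mul]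
  rw [this]
  exact hy.smul _

/-- A uniform power of `π` pushes a finitely generated submodule into a submodule. -/
theorem exists_uniform_pow {B M' : Type*} [CommRing B] [AddCommGroup M'] [Module B M'] (π : B)
    (N IC : Submodule B M') (hfg : IC.FG) (h : ∀ y : M', ∃ m : ℕ, π ^ m • y ∈ N) :
    ∃ n : ℕ, ∀ y ∈ IC, π ^ n • y ∈ N := by
  classical
  obtain ⟨s, hs⟩ := hfg
  choose m hm using h
  refine ⟨s.sup m, fun y hy => ?_⟩
  rw [← hs] at hy
  induction hy using Submodule.span_induction with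
  | mem y hy =>
    have hle : m y ≤ s.sup m := Finset.le_sup hy
    obtain ⟨k, hk⟩ := Nat.exists_eq_add_of_le hle
    rw [hk, pow_add, mul_comm, mul_smul]
    exact N.smul_mem _ (hm y)
  | zero => rw [smul_zero]; exact N.zero_mem
  | add x y _ _ hx hy => rw [smul_add]; exact N.add_mem hx hy
  | smul b x _ hx => rw [smul_comm]; exact N.smul_mem _ hx

end Generic

section Tensor

variable (K L K₁ K₂ : Type u) [Field K] [Field L] [Field K₁] [Field K₂]
  [Algebra K L] [Algebra K K₁] [Algebra K K₂] [Algebra K₁ K₂] [IsScalarTower K K₁ K₂]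

/-- The base change map `L ⊗ K₁ → L ⊗ K₂`. -/
noncomputable def phi : L ⊗[K] K₁ →ₐ[L] L ⊗[K] K₂ :=
  Algebra.TensorProduct.map (AlgHom.id L L) (IsScalarTower.toAlgHom K K₁ K₂)

@[simp] theorem phi_tmul (l : L) (k : K₁) :
    phi K L K₁ K₂ (l ⊗ₜ[K] k) = l ⊗ₜ[K] algebraMap K₁ K₂ k := by
  simp [phi]

variable {K L K₁ K₂}

/-- Every element of `L ⊗ K₂` is a polynomial in `1 ⊗ θ` of degree `< p` over `L ⊗ K₁`. -/
theorem exists_expansion (pb : PowerBasis K₁ K₂) (z : L ⊗[K] K₂) :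
    ∃ g : ℕ → L ⊗[K] K₁, z = ∑ k ∈ Finset.range pb.dim,
      phi K L K₁ K₂ (g k) * ((1 : L) ⊗ₜ[K] pb.gen) ^ k := by
  induction z using TensorProduct.induction_on with
  | zero => exact ⟨fun _ => 0, by simp⟩
  | tmul l k₂ =>
    obtain ⟨q, hq, rfl⟩ := pb.exists_eq_aeval k₂
    refine ⟨fun k => l ⊗ₜ[K] q.coeff k, ?_⟩
    rw [aeval_eq_sum_range' hq, TensorProduct.tmul_sum]
    refine Finset.sum_congr rfl fun k _ => ?_
    rw [phi_tmul, Algebra.TensorProduct.tmul_pow, one_pow, Algebra.TensorProduct.tmul_mul_tmul,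
      mul_one, Algebra.smul_def]
  | add z z' hz hz' =>
    obtain ⟨g, hg⟩ := hz
    obtain ⟨g', hg'⟩ := hz'
    refine ⟨fun k => g k + g' k, ?_⟩
    rw [hg, hg', ← Finset.sum_add_distrib]
    refine Finset.sum_congr rfl fun k _ => ?_
    rw [map_add, add_mul]

/-- The coordinate functional, base changed. -/
noncomputable def lam (pb : PowerBasis K₁ K₂) (i : Fin pb.dim) :
    L ⊗[K] K₂ →ₗ[K] L ⊗[K] K₁ :=
  TensorProduct.map LinearMap.id ((pb.basis.coord i).restrictScalars K)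

theorem lam_tmul (pb : PowerBasis K₁ K₂) (i : Fin pb.dim) (l : L) (k : K₂) :
    lam (K := K) (L := L) pb i (l ⊗ₜ[K] k) = l ⊗ₜ[K] pb.basis.coord i k := rfl

theorem lam_mul (pb : PowerBasis K₁ K₂) (i : Fin pb.dim) (s : L ⊗[K] K₁) (z : L ⊗[K] K₂) :
    lam pb i (phi K L K₁ K₂ s * z) = s * lam pb i z := by
  induction s using TensorProduct.induction_on with
  | zero => simp
  | tmul l k₁ =>
    induction z using TensorProduct.induction_on with
    | zero => simp
    | tmul l' k₂ =>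
      rw [phi_tmul, Algebra.TensorProduct.tmul_mul_tmul, lam_tmul, lam_tmul,
        Algebra.TensorProduct.tmul_mul_tmul, ← Algebra.smul_def, map_smul, smul_eq_mul]
    | add z z' hz hz' => rw [mul_add, map_add, hz, hz', map_add, mul_add]
  | add s s' hs hs' => rw [map_add, add_mul, map_add, hs, hs', add_mul]

theorem phi_injective : Function.Injective (phi K L K₁ K₂) := by
  have h := TensorProduct.map_injective_of_flat_flat (R := K) (LinearMap.id : L →ₗ[K] L)
    (IsScalarTower.toAlgHom K K₁ K₂).toLinearMap Function.injective_id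
    (algebraMap K₁ K₂).injective
  have key : ∀ z : L ⊗[K] K₁, TensorProduct.map (LinearMap.id : L →ₗ[K] L)
      (IsScalarTower.toAlgHom K K₁ K₂).toLinearMap z = phi K L K₁ K₂ z := by
    intro z
    induction z using TensorProduct.induction_on with
    | zero => simp
    | tmul l k => simp
    | add z z' hz hz' => rw [map_add, map_add, hz, hz']
  intro x y hxy
  apply h
  rw [key, key, hxy]

/-- Lying over for `L ⊗ K₁ → L ⊗ K₂`. -/
theorem exists_over [FiniteDimensional K K₂] (𝔓₁ : Ideal (L ⊗[K] K₁)) [𝔓₁.IsMaximal] :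
    ∃ 𝔓₂ : Ideal (L ⊗[K] K₂), 𝔓₂.IsMaximal ∧ 𝔓₂.comap (phi K L K₁ K₂) = 𝔓₁ := by
  letI : Algebra (L ⊗[K] K₁) (L ⊗[K] K₂) := (phi K L K₁ K₂).toRingHom.toAlgebra
  haveI : IsScalarTower L (L ⊗[K] K₁) (L ⊗[K] K₂) :=
    IsScalarTower.of_algebraMap_eq (fun l => ((phi K L K₁ K₂).commutes l).symm)
  haveI : Algebra.IsIntegral L (L ⊗[K] K₂) := Algebra.IsIntegral.of_finite L _
  haveI : Algebra.IsIntegral (L ⊗[K] K₁) (L ⊗[K] K₂) := Algebra.IsIntegral.tower_top (R := L)
  have hker : RingHom.ker (algebraMap (L ⊗[K] K₁) (L ⊗[K] K₂)) ≤ 𝔓₁ := by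
    have : RingHom.ker (algebraMap (L ⊗[K] K₁) (L ⊗[K] K₂)) = ⊥ :=
      (RingHom.injective_iff_ker_eq_bot _).mp (phi_injective (K := K) (L := L))
    rw [this]; exact bot_le
  obtain ⟨Q, hQ, hQ'⟩ := Ideal.exists_ideal_over_maximal_of_isIntegral 𝔓₁ hker
  exact ⟨Q, hQ, hQ'⟩

/-- `L ⊗ K₁` is reduced for `L/K` geometrically reduced and `K₁/K` algebraic. -/
theorem isReduced_tensor [Algebra.IsGeometricallyReduced K L] [Algebra.IsAlgebraic K K₁] :
    IsReduced (L ⊗[K] K₁) :=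
  isReduced_of_injective (Algebra.TensorProduct.comm K L K₁)
    (Algebra.TensorProduct.comm K L K₁).injective

/-- In a reduced Artinian ring, a maximal ideal is annihilated by an element outside of it. -/
theorem exists_annihilator {R : Type*} [CommRing R] [IsArtinianRing R] [IsReduced R]
    (𝔓 : Ideal R) [h𝔓 : 𝔓.IsMaximal] : ∃ e : R, e ∉ 𝔓 ∧ ∀ x ∈ 𝔓, e * x = 0 := by
  classical
  let m₀ : MaximalSpectrum R := ⟨𝔓, h𝔓⟩
  set E := IsArtinianRing.equivPi R with hE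
  refine ⟨E.symm (Pi.single m₀ 1), ?_, ?_⟩
  · intro hmem
    have h1 : E (E.symm (Pi.single m₀ 1)) m₀ = 1 := by
      rw [AlgEquiv.apply_symm_apply, Pi.single_eq_same]
    rw [IsArtinianRing.equivPi_apply] at h1
    have h2 : (Ideal.Quotient.mk 𝔓) (E.symm (Pi.single m₀ 1)) = 0 :=
      Ideal.Quotient.eq_zero_iff_mem.mpr hmem
    have h3 : (1 : R ⧸ m₀.asIdeal) = 0 := by
      rw [← h1]; exact h2
    haveI : Nontrivial (R ⧸ m₀.asIdeal) := Ideal.Quotient.nontrivial_iff.mpr h𝔓.ne_top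
    exact one_ne_zero h3
  · intro x hx
    apply E.injective
    rw [map_mul, AlgEquiv.apply_symm_apply, map_zero]
    funext m
    rw [Pi.mul_apply, Pi.zero_apply, IsArtinianRing.equivPi_apply]
    by_cases hm : m = m₀
    · subst hm
      have : (Ideal.Quotient.mk m₀.asIdeal) x = 0 := Ideal.Quotient.eq_zero_iff_mem.mpr hx
      erw [this, mul_zero]
    · rw [Pi.single_eq_of_ne hm, zero_mul]

variable [FiniteDimensional K K₁] [FiniteDimensional K K₂]

/-- `a` is not a `p`-th power in any residue field of `L ⊗ K₁` when `L ⊗ K₂` is reduced. -/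
theorem not_pow_mem {p : ℕ} [hp : Fact p.Prime] [CharP K p] [IsReduced (L ⊗[K] K₂)]
    [IsReduced (L ⊗[K] K₁)] (pb : PowerBasis K₁ K₂) (hdim : pb.dim = p) (a : K₁)
    (ha : pb.gen ^ p = algebraMap K₁ K₂ a) (𝔓₁ : Ideal (L ⊗[K] K₁)) [𝔓₁.IsMaximal]
    (r : L ⊗[K] K₁) : r ^ p - (1 : L) ⊗ₜ[K] a ∉ 𝔓₁ := by
  intro hmem
  haveI : IsArtinianRing (L ⊗[K] K₁) := IsArtinianRing.of_finite L _
  obtain ⟨e, he, hann⟩ := exists_annihilator 𝔓₁
  have hfr : Module.finrank L (L ⊗[K] K₂) = Module.finrank K K₂ := Module.finrank_baseChange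
  haveI : Nontrivial (L ⊗[K] K₂) :=
    Module.nontrivial_of_finrank_pos (R := L) (by rw [hfr]; exact Module.finrank_pos)
  haveI : CharP L p := charP_of_injective_algebraMap (algebraMap K L).injective p
  haveI : CharP (L ⊗[K] K₂) p :=
    charP_of_injective_algebraMap (algebraMap L (L ⊗[K] K₂)).injective p
  set φ := phi K L K₁ K₂ with hφ
  set Θ : L ⊗[K] K₂ := (1 : L) ⊗ₜ[K] pb.gen with hΘ
  have hΘp : Θ ^ p = φ ((1 : L) ⊗ₜ[K] a) := by
    rw [hΘ, Algebra.TensorProduct.tmul_pow, one_pow, ha, hφ, phi_tmul]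
  have h1 : (φ e * (Θ - φ r)) ^ p = 0 := by
    rw [mul_pow, sub_pow_char, hΘp, ← map_pow, ← map_pow, ← map_sub, ← map_mul]
    have : e ^ p * ((1 : L) ⊗ₜ[K] a - r ^ p) = 0 := by
      obtain ⟨k, hk⟩ : ∃ k, p = k + 1 := ⟨p - 1, by have := hp.out.pos; omega⟩
      have h2 : e * (r ^ p - (1 : L) ⊗ₜ[K] a) = 0 := hann _ hmem
      calc e ^ p * ((1 : L) ⊗ₜ[K] a - r ^ p) = -(e ^ k * (e * (r ^ p - (1 : L) ⊗ₜ[K] a))) := by
            rw [hk]; ring
        _ = 0 := by rw [h2, mul_zero, neg_zero]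
    rw [this, map_zero]
  have h2 : φ e * (Θ - φ r) = 0 := IsNilpotent.eq_zero ⟨p, h1⟩
  have h3 : φ e * Θ = φ (e * r) * 1 := by
    rw [map_mul, mul_one]
    have : φ e * Θ - φ e * φ r = 0 := by rw [← mul_sub]; exact h2
    exact sub_eq_zero.mp this
  have hp1 : 1 < pb.dim := by rw [hdim]; exact hp.out.one_lt
  have hp0 : 0 < pb.dim := by omega
  have h4 := congrArg (lam (K := K) (L := L) pb ⟨1, hp1⟩) h3
  rw [lam_mul, lam_mul, hΘ, lam_tmul] at h4
  have h5 : ((1 : L ⊗[K] K₂)) = (1 : L) ⊗ₜ[K] (1 : K₂) := rfl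
  rw [h5, lam_tmul] at h4
  have h6 : pb.basis.coord ⟨1, hp1⟩ pb.gen = 1 := by
    have : pb.gen = pb.basis ⟨1, hp1⟩ := by rw [pb.basis_eq_pow, pow_one]
    rw [this, Module.Basis.coord_apply, Module.Basis.repr_self, Finsupp.single_eq_same]
  have h7 : pb.basis.coord ⟨1, hp1⟩ (1 : K₂) = 0 := by
    have : (1 : K₂) = pb.basis ⟨0, hp0⟩ := by rw [pb.basis_eq_pow, pow_zero]
    rw [this, Module.Basis.coord_apply, Module.Basis.repr_self, Finsupp.single_eq_of_ne]
    intro h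
    have := congrArg Fin.val h
    simp at this
  rw [h6, h7, TensorProduct.tmul_zero, mul_zero] at h4
  have h8 : ((1 : L) ⊗ₜ[K] (1 : K₁)) = (1 : L ⊗[K] K₁) := rfl
  rw [h8, mul_one] at h4
  exact he (by rw [h4]; exact 𝔓₁.zero_mem)

end Tensor

section Bound

variable {B K L K₁ K₂ : Type u} [CommRing B] [IsDomain B] [IsDiscreteValuationRing B]
  [Field K] [Field L] [Field K₁] [Field K₂] [Algebra B L] [IsFractionRing B L]
  [Algebra K L] [Algebra K K₁] [Algebra K K₂] [Algebra K₁ K₂] [IsScalarTower K K₁ K₂]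

/-- The map `L ⊗ K₁ → (L ⊗ K₂) / 𝔓`. -/
noncomputable def chi (𝔓 : Ideal (L ⊗[K] K₂)) : L ⊗[K] K₁ →ₐ[L] (L ⊗[K] K₂) ⧸ 𝔓 :=
  (Ideal.Quotient.mkₐ L 𝔓).comp (phi K L K₁ K₂)

theorem chi_smul (𝔓 : Ideal (L ⊗[K] K₂)) (b : B) (r : L ⊗[K] K₁) :
    chi 𝔓 (algebraMap B L b • r) = b • chi 𝔓 r := by
  rw [map_smul, algebraMap_smul]

/-- The submodule of the `Σ_{k<p} c_k θ^k` with `c_k` in the image of `L ⊗ K₁`, integral over
`B`. -/
noncomputable def NSub (pb : PowerBasis K₁ K₂) (𝔓 : Ideal (L ⊗[K] K₂)) :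
    Submodule B ((L ⊗[K] K₂) ⧸ 𝔓) where
  carrier := {y | ∃ g : ℕ → L ⊗[K] K₁, (∀ k, IsIntegral B (chi 𝔓 (g k))) ∧
    y = ∑ k ∈ Finset.range pb.dim,
      chi 𝔓 (g k) * Ideal.Quotient.mk 𝔓 ((1 : L) ⊗ₜ[K] pb.gen) ^ k}
  add_mem' := by
    rintro y y' ⟨g, hg, rfl⟩ ⟨g', hg', rfl⟩
    refine ⟨fun k => g k + g' k, fun k => ?_, ?_⟩
    · rw [map_add]; exact (hg k).add (hg' k)
    · rw [← Finset.sum_add_distrib]
      refine Finset.sum_congr rfl fun k _ => ?_
      rw [map_add, add_mul]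
  zero_mem' := ⟨fun _ => 0, fun k => by rw [map_zero]; exact isIntegral_zero, by simp⟩
  smul_mem' := by
    rintro b y ⟨g, hg, rfl⟩
    refine ⟨fun k => algebraMap B L b • g k, fun k => ?_, ?_⟩
    · rw [chi_smul]; exact (hg k).smul b
    · rw [Finset.smul_sum]
      refine Finset.sum_congr rfl fun k _ => ?_
      rw [chi_smul, smul_mul_assoc]

variable [FiniteDimensional K K₂]

/-- The uniform bound: a fixed power of the uniformizer pushes every integral element of every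
residue field of `L ⊗ K₂` into `NSub`. -/
theorem exists_bound (hB : CAlg.IsNagata B) {πB : B} (hπB : Irreducible πB)
    (pb : PowerBasis K₁ K₂) :
    ∃ n₀ : ℕ, ∀ (𝔓 : Ideal (L ⊗[K] K₂)) [𝔓.IsMaximal] (y : (L ⊗[K] K₂) ⧸ 𝔓),
      IsIntegral B y → πB ^ n₀ • y ∈ NSub (B := B) pb 𝔓 := by
  classical
  haveI : IsArtinianRing (L ⊗[K] K₂) := IsArtinianRing.of_finite L _
  have key : ∀ m : MaximalSpectrum (L ⊗[K] K₂), ∃ n : ℕ, ∀ y : (L ⊗[K] K₂) ⧸ m.asIdeal,
      IsIntegral B y → πB ^ n • y ∈ NSub (B := B) pb m.asIdeal := by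
    intro m
    set 𝔓 := m.asIdeal with h𝔓
    haveI : 𝔓.IsMaximal := m.isMaximal
    letI : Field ((L ⊗[K] K₂) ⧸ 𝔓) := Ideal.Quotient.field 𝔓
    haveI : FiniteDimensional L ((L ⊗[K] K₂) ⧸ 𝔓) :=
      Module.Finite.of_surjective (Ideal.Quotient.mkₐ L 𝔓).toLinearMap
        (Ideal.Quotient.mkₐ_surjective L 𝔓)
    haveI : IsScalarTower B L ((L ⊗[K] K₂) ⧸ 𝔓) := inferInstance
    haveI hfin := Epp.finite_integralClosure_of_nagata B L hB ((L ⊗[K] K₂) ⧸ 𝔓)
    have hfg : (Subalgebra.toSubmodule (integralClosure B ((L ⊗[K] K₂) ⧸ 𝔓))).FG :=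
      Module.Finite.iff_fg.mp hfin
    have hall : ∀ y : (L ⊗[K] K₂) ⧸ 𝔓, ∃ m : ℕ, πB ^ m • y ∈ NSub (B := B) pb 𝔓 := by
      intro y
      obtain ⟨z, rfl⟩ := Ideal.Quotient.mk_surjective y
      obtain ⟨g, hg⟩ := exists_expansion (K := K) (L := L) pb z
      have halg : ∀ k, IsAlgebraic B (chi 𝔓 (g k)) := fun k =>
        (IsFractionRing.isAlgebraic_iff B L ((L ⊗[K] K₂) ⧸ 𝔓)).mpr
          (Algebra.IsAlgebraic.isAlgebraic _)
      choose mk hmk using fun k => exists_pow_smul_integral hπB (halg k)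
      refine ⟨(Finset.range pb.dim).sup mk,
        fun k => if k ∈ Finset.range pb.dim then
          algebraMap B L (πB ^ (Finset.range pb.dim).sup mk) • g k else 0, fun k => ?_, ?_⟩
      · by_cases hk : k ∈ Finset.range pb.dim
        · beta_reduce
          rw [if_pos hk, chi_smul]
          obtain ⟨j, hj⟩ := Nat.exists_eq_add_of_le (Finset.le_sup (f := mk) hk)
          rw [hj, pow_add, mul_comm, mul_smul]
          exact (hmk k).smul _
        · beta_reduce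
          rw [if_neg hk, map_zero]; exact isIntegral_zero
      · rw [hg, map_sum, Finset.smul_sum]
        refine Finset.sum_congr rfl fun k hk => ?_
        beta_reduce
        rw [if_pos hk, chi_smul, smul_mul_assoc, map_mul, map_pow]
        rfl
    exact exists_uniform_pow πB (NSub (B := B) pb 𝔓) _ hfg hall |>.imp fun n hn y hy => hn y hy
  choose nm hnm using key
  haveI : Fintype (MaximalSpectrum (L ⊗[K] K₂)) := Fintype.ofFinite _
  refine ⟨Finset.univ.sup nm, fun 𝔓 h𝔓 y hy => ?_⟩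
  let m : MaximalSpectrum (L ⊗[K] K₂) := ⟨𝔓, h𝔓⟩
  obtain ⟨j, hj⟩ := Nat.exists_eq_add_of_le (Finset.le_sup (f := nm) (Finset.mem_univ m))
  rw [hj, pow_add, mul_comm, mul_smul]
  exact (NSub (B := B) pb 𝔓).smul_mem _ (hnm m y hy)

end Bound

end Groth.Agent.Lib.Helper18.SepSol
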