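import Mathlib
import Groth.Agent.Lib.Helper18.Unram.DVRFin

/-! # A valuation ring dominating a discrete valuation ring in an algebraic extension is a
localization of the integral closure -/

set_option autoImplicit false
set_option linter.style.haveILetI false

namespace Groth.Agent.Lib.Helper18.SepSol

open Polynomial IsLocalRing

/-- An element lying in every valuation ring containing the image of `B` is integral over `B`. -/
theorem isIntegral_of_forall_mem {B F : Type*} [CommRing B] [Field F] [Algebra B F] (x : F)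
    (h : ∀ V : ValuationSubring F, (∀ b : B, algebraMap B F b ∈ V) → x ∈ V) : IsIntegral B x := by
  set S : Set F := Set.range (algebraMap B F) with hS
  have h1 : x ∈ (⨅ V : {V : ValuationSubring F // S ⊆ V.toSubring}, V.1.toSubring) := by
    rw [Subring.mem_iInf]
    rintro ⟨V, hV⟩
    exact h V fun b => hV ⟨b, rfl⟩
  rw [iInf_valuationSubring_superset] at h1
  obtain ⟨P, hPmon, hPx⟩ : IsIntegral (Subring.closure S) x := h1
  let g' : B →+* Subring.closure S :=
    (algebraMap B F).codRestrict _ (fun b => Subring.subset_closure ⟨b, rfl⟩)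
  have hg'surj : Function.Surjective g' := by
    rintro ⟨y, hy⟩
    have hle : Subring.closure S ≤ (algebraMap B F).range := Subring.closure_le.mpr (by
      rintro _ ⟨b, rfl⟩; exact ⟨b, rfl⟩)
    obtain ⟨b, rfl⟩ := hle hy
    exact ⟨b, rfl⟩
  obtain ⟨P', hP'⟩ := Polynomial.map_surjective g' hg'surj P
  obtain ⟨Q, hQmap, -, hQmon⟩ :=
    lifts_and_natDegree_eq_and_monic ((mem_lifts P).mpr ⟨P', hP'⟩) hPmon
  refine ⟨Q, hQmon, ?_⟩
  have hcomp : (algebraMap (Subring.closure S) F).comp g' = algebraMap B F := by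
    ext b; rfl
  rw [← hcomp, ← Polynomial.eval₂_map, hQmap]
  exact hPx

/-- Every element of a valuation ring `W` dominating the discrete valuation ring `B`, in an
algebraic extension, is a quotient `b / s` of integral elements with `s` a unit of `W`. -/
theorem exists_integral_mul {B F : Type*} [CommRing B] [IsDomain B] [IsDiscreteValuationRing B]
    [Field F] [Algebra B F] (hinj : Function.Injective (algebraMap B F))
    (halg : ∀ x : F, ∃ q : B[X], q ≠ 0 ∧ q.eval₂ (algebraMap B F) x = 0)
    (W : ValuationSubring F) (hW : ∀ b, algebraMap B F b ∈ W)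
    (hWm : ∀ b ∈ maximalIdeal B, W.valuation (algebraMap B F b) < 1) (w : F) (hw : w ∈ W) :
    ∃ s b : F, IsIntegral B s ∧ IsIntegral B b ∧ W.valuation s = 1 ∧ w * s = b := by
  classical
  by_cases hw0 : w = 0
  · exact ⟨1, 0, isIntegral_one, isIntegral_zero, map_one _, by rw [hw0, zero_mul]⟩
  set g := algebraMap B F with hg
  obtain ⟨q₀, hq₀0, hq₀⟩ := halg w
  obtain ⟨q, hq, i₀, hi₀⟩ := Unram.exists_unit_coeff_root g hinj w q₀ hq₀0 hq₀
  set d := q.natDegree with hd
  -- the largest index with unit coefficient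
  set I : Finset ℕ := (Finset.range (d + 1)).filter fun i => IsUnit (q.coeff i) with hI
  have hi₀I : i₀ ∈ I := by
    rw [hI, Finset.mem_filter, Finset.mem_range]
    refine ⟨?_, hi₀⟩
    have : q.coeff i₀ ≠ 0 := hi₀.ne_zero
    exact Nat.lt_succ_of_le (le_natDegree_of_ne_zero this)
  set r := I.max' ⟨i₀, hi₀I⟩ with hr
  have hrI : r ∈ I := Finset.max'_mem _ _
  have hrd : r < d + 1 := Finset.mem_range.mp (Finset.mem_filter.mp hrI).1
  have hru : IsUnit (q.coeff r) := (Finset.mem_filter.mp hrI).2
  have hrmax : ∀ i, r < i → ¬ IsUnit (q.coeff i) := by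
    intro i hi hu
    by_cases hid : i < d + 1
    · have : i ∈ I := Finset.mem_filter.mpr ⟨Finset.mem_range.mpr hid, hu⟩
      exact absurd (Finset.le_max' _ _ this) (not_le.mpr hi)
    · have : q.coeff i = 0 := coeff_eq_zero_of_natDegree_lt (by omega)
      rw [this] at hu
      exact not_isUnit_zero hu
  obtain ⟨m', hm'⟩ : ∃ m', d + 1 = r + (m' + 1) := ⟨d - r, by omega⟩
  set s : F := ∑ j ∈ Finset.range (m' + 1), g (q.coeff (r + j)) * w ^ j with hs
  set t : F := ∑ i ∈ Finset.range r, g (q.coeff i) * w ^ i with ht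
  have hrel : t + w ^ r * s = 0 := by
    have h1 : q.eval₂ g w = ∑ i ∈ Finset.range (d + 1), g (q.coeff i) * w ^ i :=
      eval₂_eq_sum_range g w
    rw [hq, hm', Finset.sum_range_add] at h1
    rw [ht, hs, Finset.mul_sum, h1]
    congr 1
    refine Finset.sum_congr rfl fun j _ => ?_
    rw [pow_add]; ring
  -- valuation of `s`
  have hvs : W.valuation s = 1 := by
    rw [hs, Finset.sum_range_succ', add_zero, pow_zero, mul_one]
    have h1 : W.valuation (g (q.coeff r)) = 1 := by
      obtain ⟨u, hu⟩ := hru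
      have h2 : W.valuation (g (u : B)) ≤ 1 := (W.valuation_le_one_iff _).mpr (hW _)
      have h3 : W.valuation (g ((u⁻¹ : Bˣ) : B)) ≤ 1 := (W.valuation_le_one_iff _).mpr (hW _)
      have h4 : W.valuation (g (u : B)) * W.valuation (g ((u⁻¹ : Bˣ) : B)) = 1 := by
        rw [← map_mul, ← map_mul, Units.mul_inv, map_one, map_one]
      rw [← hu]
      by_contra hne
      have hlt : W.valuation (g (u : B)) < 1 := lt_of_le_of_ne h2 hne
      have : W.valuation (g (u : B)) * W.valuation (g ((u⁻¹ : Bˣ) : B)) < 1 :=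
        mul_lt_one_of_nonneg_of_lt_one_left zero_le' hlt h3
      rw [h4] at this
      exact lt_irrefl _ this
    rw [Valuation.map_add_eq_of_lt_right, h1]
    rw [h1]
    refine Valuation.map_sum_lt _ one_ne_zero fun j _ => ?_
    rw [map_mul, map_pow]
    have h5 : W.valuation (g (q.coeff (r + (j + 1)))) < 1 := by
      apply hWm
      rw [mem_maximalIdeal, mem_nonunits_iff]
      exact hrmax _ (by omega)
    calc W.valuation (g (q.coeff (r + (j + 1)))) * W.valuation w ^ (j + 1)
        ≤ W.valuation (g (q.coeff (r + (j + 1)))) * 1 :=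
          mul_le_mul' le_rfl (pow_le_one₀ zero_le' ((W.valuation_le_one_iff _).mpr hw))
      _ = _ := mul_one _
      _ < 1 := h5
  -- membership in all valuation rings
  have hmem : ∀ V : ValuationSubring F, (∀ b : B, g b ∈ V) → s ∈ V ∧ w * s ∈ V := by
    intro V hV
    rcases V.mem_or_inv_mem w with hwV | hwV
    · have hsV : s ∈ V := sum_mem fun j _ => V.mul_mem _ _ (hV _) (pow_mem hwV j)
      exact ⟨hsV, V.mul_mem _ _ hwV hsV⟩
    · have hs' : s = -∑ i ∈ Finset.range r, g (q.coeff i) * w⁻¹ ^ (r - i) := by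
        have h1 : w ^ r * s = -t := by linear_combination hrel
        have h2 : s = w⁻¹ ^ r * (w ^ r * s) := by
          rw [← mul_assoc, ← mul_pow, inv_mul_cancel₀ hw0, one_pow, one_mul]
        rw [h2, h1, ht, mul_neg, Finset.mul_sum]
        congr 1
        refine Finset.sum_congr rfl fun i hi => ?_
        have hir : i < r := Finset.mem_range.mp hi
        have e1 : w⁻¹ ^ r = w⁻¹ ^ (r - i) * w⁻¹ ^ i := by
          rw [← pow_add]; congr 1; omega
        rw [e1]
        have : w⁻¹ ^ i * w ^ i = 1 := by rw [← mul_pow, inv_mul_cancel₀ hw0, one_pow]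
        calc w⁻¹ ^ (r - i) * w⁻¹ ^ i * (g (q.coeff i) * w ^ i)
            = g (q.coeff i) * w⁻¹ ^ (r - i) * (w⁻¹ ^ i * w ^ i) := by ring
          _ = g (q.coeff i) * w⁻¹ ^ (r - i) := by rw [this, mul_one]
      have hws' : w * s = -∑ i ∈ Finset.range r, g (q.coeff i) * w⁻¹ ^ (r - i - 1) := by
        rw [hs', mul_neg, Finset.mul_sum]
        congr 1
        refine Finset.sum_congr rfl fun i hi => ?_
        have hir : i < r := Finset.mem_range.mp hi
        obtain ⟨k, hk⟩ : ∃ k, r - i = k + 1 := ⟨r - i - 1, by omega⟩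
        rw [hk, Nat.add_sub_cancel, pow_succ]
        calc w * (g (q.coeff i) * (w⁻¹ ^ k * w⁻¹)) = g (q.coeff i) * w⁻¹ ^ k * (w * w⁻¹) := by ring
          _ = g (q.coeff i) * w⁻¹ ^ k := by rw [mul_inv_cancel₀ hw0, mul_one]
      constructor
      · rw [hs']
        exact neg_mem (sum_mem fun i _ => V.mul_mem _ _ (hV _) (pow_mem hwV _))
      · rw [hws']
        exact neg_mem (sum_mem fun i _ => V.mul_mem _ _ (hV _) (pow_mem hwV _))
  exact ⟨s, w * s, isIntegral_of_forall_mem s fun V hV => (hmem V hV).1,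
    isIntegral_of_forall_mem (w * s) fun V hV => (hmem V hV).2, hvs, rfl⟩

end Groth.Agent.Lib.Helper18.SepSol
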