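import Mathlib
import Groth.Prelude.Def_EtRam
import Groth.Agent.Lib.Helper18.SepSol.LocInt
import Groth.Agent.Lib.Helper18.Eis.TotRam

/-! # Auxiliary lemmas for the local analysis -/

set_option autoImplicit false
set_option linter.style.haveILetI false

namespace Groth.Agent.Lib.Helper18.SepSol

open Polynomial IsLocalRing

section PowSub

variable {F M : Type*} [Field F] [Field M] (p : ℕ) [hp : Fact p.Prime] [CharP M p]

/-- The valuation subring `{x : x ^ p ∈ ι O}` of an extension of exponent one. -/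
def powSub (ι : F →+* M) (O : ValuationSubring F) (hpow : ∀ x : M, ∃ f : F, x ^ p = ι f) :
    ValuationSubring M where
  carrier := {x | ∃ w ∈ O, x ^ p = ι w}
  mul_mem' := by
    rintro x y ⟨w, hw, hx⟩ ⟨w', hw', hy⟩
    exact ⟨w * w', O.mul_mem _ _ hw hw', by rw [mul_pow, hx, hy, map_mul]⟩
  one_mem' := ⟨1, O.one_mem, by rw [one_pow, map_one]⟩
  add_mem' := by
    rintro x y ⟨w, hw, hx⟩ ⟨w', hw', hy⟩
    exact ⟨w + w', O.add_mem _ _ hw hw', by rw [add_pow_char, hx, hy, map_add]⟩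
  zero_mem' := ⟨0, O.zero_mem, by rw [zero_pow hp.out.ne_zero, map_zero]⟩
  neg_mem' := by
    rintro x ⟨w, hw, hx⟩
    refine ⟨(-1) ^ p * w, O.mul_mem _ _ (pow_mem (O.neg_mem _ O.one_mem) p) hw, ?_⟩
    rw [neg_pow, hx, map_mul, map_pow, map_neg, map_one]
  mem_or_inv_mem' := by
    intro x
    obtain ⟨f, hf⟩ := hpow x
    rcases O.mem_or_inv_mem f with h | h
    · exact Or.inl ⟨f, h, hf⟩
    · exact Or.inr ⟨f⁻¹, h, by rw [inv_pow, hf, map_inv₀]⟩

theorem mem_powSub {ι : F →+* M} {O : ValuationSubring F}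
    {hpow : ∀ x : M, ∃ f : F, x ^ p = ι f} {x : M} :
    x ∈ powSub p ι O hpow ↔ ∃ w ∈ O, x ^ p = ι w := Iff.rfl

theorem pow_mem_iff (O : ValuationSubring F) (x : F) : x ^ p ∈ O ↔ x ∈ O := by
  rw [← O.valuation_le_one_iff, ← O.valuation_le_one_iff, map_pow]
  exact pow_le_one_iff hp.out.ne_zero

theorem map_mem_powSub_iff {ι : F →+* M} {O : ValuationSubring F}
    {hpow : ∀ x : M, ∃ f : F, x ^ p = ι f} (f : F) :
    ι f ∈ powSub p ι O hpow ↔ f ∈ O := by
  rw [mem_powSub]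
  constructor
  · rintro ⟨w, hw, e⟩
    rw [← map_pow] at e
    have : f ^ p = w := ι.injective e
    rw [← pow_mem_iff p O, this]
    exact hw
  · intro hf
    exact ⟨f ^ p, pow_mem hf p, (map_pow ι f p).symm⟩

end PowSub

section Rep

variable {F M : Type*} [Field F] [Field M] [Algebra F M]

/-- Uniqueness of the representation in a power basis. -/
theorem eq_of_aeval_eq (pb : PowerBasis F M) {q q' : F[X]} (hq : q.natDegree < pb.dim)
    (hq' : q'.natDegree < pb.dim) (h : aeval pb.gen q = aeval pb.gen q') : q = q' := by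
  by_contra hne
  have h0 : q - q' ≠ 0 := sub_ne_zero.mpr hne
  have h1 : aeval pb.gen (q - q') = 0 := by rw [map_sub, h, sub_self]
  have h2 := pb.dim_le_natDegree_of_root h0 h1
  have h3 : (q - q').natDegree ≤ max q.natDegree q'.natDegree := natDegree_sub_le q q'
  have h4 : max q.natDegree q'.natDegree < pb.dim := max_lt hq hq'
  omega

/-- Reduction of the degree modulo a monic polynomial killing `θ`. -/
theorem exists_rep_lt {θ : M} {f : F[X]} (hf : f.Monic) (hf1 : f ≠ 1) (hθ : aeval θ f = 0)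
    (q : F[X]) : ∃ q' : F[X], q'.natDegree < f.natDegree ∧ aeval θ q' = aeval θ q := by
  refine ⟨q %ₘ f, natDegree_modByMonic_lt q hf hf1, ?_⟩
  conv_rhs => rw [← modByMonic_add_div q f]
  rw [map_add, map_mul, hθ, zero_mul, add_zero]

end Rep

section Bound

/-- The bounded-denominator representation of the elements of the valuation ring upstairs. -/
theorem bound_of_integral {B F M₂ : Type*} [CommRing B] [IsDomain B] [IsDiscreteValuationRing B]
    [Field F] [Field M₂] [Algebra B F] [Algebra B M₂] [Algebra F M₂] [IsScalarTower B F M₂]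
    (p : ℕ) [hp : Fact p.Prime] [CharP M₂ p] (θ₂ : M₂)
    (W₁ : ValuationSubring F) (hpow : ∀ x : M₂, ∃ f : F, x ^ p = algebraMap F M₂ f)
    (hinj : Function.Injective (algebraMap B F))
    (halg : ∀ x : F, ∃ q : B[X], q ≠ 0 ∧ q.eval₂ (algebraMap B F) x = 0)
    (hW : ∀ b, algebraMap B F b ∈ W₁)
    (hWm : ∀ b ∈ maximalIdeal B, W₁.valuation (algebraMap B F b) < 1)
    (πb : B) (n₀ : ℕ)
    (hN : ∀ y : M₂, IsIntegral B y → ∃ g : ℕ → F, (∀ k, IsIntegral B (g k)) ∧
      πb ^ n₀ • y = ∑ k ∈ Finset.range p, algebraMap F M₂ (g k) * θ₂ ^ k) :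
    ∀ x ∈ powSub p (algebraMap F M₂) W₁ hpow, ∃ q : F[X], q.natDegree < p ∧
      (∀ i, q.coeff i ∈ W₁) ∧ algebraMap F M₂ (algebraMap B F πb ^ n₀) * x = aeval θ₂ q := by
  rintro x ⟨w, hw, hx⟩
  obtain ⟨s, b, hsint, hbint, hvs, hsb⟩ := exists_integral_mul hinj halg W₁ hW hWm w hw
  have hs0 : s ≠ 0 := by
    rintro rfl
    rw [map_zero] at hvs
    exact zero_ne_one hvs
  have hsinv : s⁻¹ ∈ W₁ := by
    rw [← W₁.valuation_le_one_iff, map_inv₀, hvs, inv_one]
  set y : M₂ := algebraMap F M₂ s * x with hy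
  have hyp : y ^ p = algebraMap F M₂ (s ^ (p - 1) * b) := by
    obtain ⟨k, hk⟩ : ∃ k, p = k + 1 := ⟨p - 1, by have := hp.out.pos; omega⟩
    rw [hy, mul_pow, hx, ← map_pow, ← map_mul, ← hsb]
    congr 1
    rw [hk, Nat.add_sub_cancel]
    ring
  have hyint : IsIntegral B y := by
    apply IsIntegral.of_pow hp.out.pos
    rw [hyp]
    exact ((hsint.pow _).mul hbint).map (IsScalarTower.toAlgHom B F M₂)
  obtain ⟨g, hg, hgy⟩ := hN y hyint
  refine ⟨∑ k ∈ Finset.range p, C (s⁻¹ * g k) * X ^ k, ?_, ?_, ?_⟩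
  · have hle : (∑ k ∈ Finset.range p, C (s⁻¹ * g k) * X ^ k : F[X]).natDegree ≤ p - 1 := by
      refine natDegree_sum_le_of_forall_le _ _ fun k hk => ?_
      refine le_trans (natDegree_C_mul_X_pow_le _ _) ?_
      have := Finset.mem_range.mp hk
      omega
    have := hp.out.pos
    omega
  · intro i
    rw [finset_sum_coeff]
    refine sum_mem fun k _ => ?_
    rw [coeff_C_mul_X_pow]
    split_ifs
    · exact W₁.mul_mem _ _ hsinv (Eis.mem_of_isIntegral W₁ hW (hg k))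
    · exact W₁.zero_mem
  · rw [map_sum]
    have h1 : algebraMap F M₂ (algebraMap B F πb ^ n₀) * x =
        algebraMap F M₂ s⁻¹ * (πb ^ n₀ • y) := by
      rw [Algebra.smul_def, IsScalarTower.algebraMap_apply B F M₂, hy, map_pow, map_pow, map_pow,
        map_inv₀]
      field_simp [(_root_.map_ne_zero (algebraMap F M₂)).mpr hs0]
    rw [h1, hgy, Finset.mul_sum]
    refine Finset.sum_congr rfl fun k _ => ?_
    rw [map_mul, map_pow, aeval_X, aeval_C, map_mul]
    ring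

end Bound

section Dec

/-- The uniformizer decomposition in `W` with respect to a uniformizer coming from `W ∩ K`. -/
theorem dec_of_generators {M : Type*} [Field M] (W : ValuationSubring M) (ϖ' : W)
    (hdec' : ∀ x : W, x ≠ 0 → ∃ (n : ℕ) (u : Wˣ), x = u * ϖ' ^ n)
    (hϖ' : maximalIdeal W = Ideal.span {ϖ'}) (ϖ : W) (hϖ : maximalIdeal W = Ideal.span {ϖ}) :
    ∀ x ∈ W, x ≠ 0 → ∃ (r : ℕ) (u : M), u ∈ W ∧ u⁻¹ ∈ W ∧ x = u * (ϖ : M) ^ r := by
  have hassoc : Associated ϖ' ϖ := by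
    rw [← Ideal.span_singleton_eq_span_singleton, ← hϖ', ← hϖ]
  obtain ⟨v, hv⟩ := hassoc
  intro x hx hx0
  have hx0' : (⟨x, hx⟩ : W) ≠ 0 := fun h => hx0 (congrArg Subtype.val h)
  obtain ⟨n, u, hu⟩ := hdec' ⟨x, hx⟩ hx0'
  -- `ϖ' = ϖ * v⁻¹`
  have hϖ'eq : ϖ' = ϖ * ((v⁻¹ : Wˣ) : W) := by
    rw [← hv, mul_assoc, Units.mul_inv, mul_one]
  set u₁ : Wˣ := u * (v⁻¹) ^ n with hu₁
  refine ⟨n, ((u₁ : W) : M), (u₁ : W).2, ?_, ?_⟩
  · have h1 : (((u₁ : W) : M))⁻¹ = (((u₁⁻¹ : Wˣ) : W) : M) := by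
      have h2 : ((u₁ : W) : M) * (((u₁⁻¹ : Wˣ) : W) : M) = 1 :=
        congrArg Subtype.val u₁.mul_inv
      exact inv_eq_of_mul_eq_one_right h2
    rw [h1]
    exact ((u₁⁻¹ : Wˣ) : W).2
  · have h3 : (⟨x, hx⟩ : W) = (u₁ : W) * ϖ ^ n := by
      rw [hu, hϖ'eq, mul_pow, hu₁, Units.val_mul, Units.val_pow_eq_pow_val]
      ring
    have := congrArg Subtype.val h3
    simpa using this

end Dec

end Groth.Agent.Lib.Helper18.SepSol
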