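import Mathlib

/-! # Approximating a purely inseparable degree `p` extension by a separable one

`F₂ = F(θ)`, `θ ^ p = a`, and `F₃ = F(θ')`, `θ' ^ p = c θ' + a` with `c` very small.  The `F`-linear
map `Φ : F₂ → F₃`, `θ ^ k ↦ θ' ^ k`, is multiplicative modulo a high power of `π` on the valuation
ring, and identifies valuation rings, uniformizers and residue fields. -/

set_option autoImplicit false
set_option linter.style.haveILetI false

namespace Groth.Agent.Lib.Helper18.SepSol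

open Polynomial IsLocalRing

section Basic

variable {F F₂ F₃ : Type*} [Field F] [Field F₂] [Field F₃] [Algebra F F₂] [Algebra F F₃]

/-- The linear map `θ ^ k ↦ θ' ^ k`. -/
noncomputable def Phi (pb : PowerBasis F F₂) (θ' : F₃) : F₂ →ₗ[F] F₃ :=
  pb.basis.constr F (fun i => θ' ^ (i : ℕ))

theorem Phi_aeval (pb : PowerBasis F F₂) (θ' : F₃) (q : F[X]) (hq : q.natDegree < pb.dim) :
    Phi pb θ' (aeval pb.gen q) = aeval θ' q := by
  rw [aeval_eq_sum_range' hq, aeval_eq_sum_range' hq, map_sum,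
    ← Fin.sum_univ_eq_sum_range (fun i => Phi pb θ' (q.coeff i • pb.gen ^ i)),
    ← Fin.sum_univ_eq_sum_range (fun i => q.coeff i • θ' ^ i)]
  refine Finset.sum_congr rfl fun i _ => ?_
  rw [map_smul, ← pb.basis_eq_pow i, Phi, Module.Basis.constr_basis]

theorem Phi_one (pb : PowerBasis F F₂) (θ' : F₃) (hdim : 0 < pb.dim) : Phi pb θ' 1 = 1 := by
  have := Phi_aeval pb θ' (1 : F[X]) (by rw [natDegree_one]; exact hdim)
  rwa [show aeval pb.gen (1 : F[X]) = 1 from map_one _,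
    show aeval θ' (1 : F[X]) = 1 from map_one _] at this

theorem Phi_smul (pb : PowerBasis F F₂) (θ' : F₃) (f : F) (x : F₂) :
    Phi pb θ' (algebraMap F F₂ f * x) = algebraMap F F₃ f * Phi pb θ' x := by
  rw [← Algebra.smul_def, map_smul, Algebra.smul_def]

theorem exists_rep (pb : PowerBasis F F₂) (x : F₂) :
    ∃ q : F[X], q.natDegree < pb.dim ∧ x = aeval pb.gen q :=
  pb.exists_eq_aeval x

end Basic

section X

variable {p : ℕ} [hp : Fact p.Prime] {F F₂ F₃ : Type*} [Field F] [Field F₂] [Field F₃]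
  [Algebra F F₂] [Algebra F F₃] [CharP F p]

/-- The data of the approximation lemma. -/
structure XData (p : ℕ) (pb : PowerBasis F F₂) (θ' : F₃) (O₂ : ValuationSubring F₂)
    (O₃ : ValuationSubring F₃) (a c π : F) (ϖ₂ : F₂) (n N : ℕ) : Prop where
  hdim : pb.dim = p
  hθ : pb.gen ^ p = algebraMap F F₂ a
  hθ' : θ' ^ p = algebraMap F F₃ c * θ' + algebraMap F F₃ a
  hcomap : ∀ f : F, algebraMap F F₂ f ∈ O₂ ↔ algebraMap F F₃ f ∈ O₃
  ha : algebraMap F F₃ a ∈ O₃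
  hπ0 : π ≠ 0
  hπ : O₃.valuation (algebraMap F F₃ π) < 1
  hc : ∃ c' : F, algebraMap F F₃ c' ∈ O₃ ∧ c = π ^ (n * p + 2 * n + N) * c'
  hN : 2 ≤ N
  hbound : ∀ x ∈ O₂, ∃ q : F[X], q.natDegree < p ∧ (∀ i, algebraMap F F₃ (q.coeff i) ∈ O₃) ∧
    algebraMap F F₂ (π ^ n) * x = aeval pb.gen q
  hϖ₂ : ϖ₂ ∈ O₂
  hϖ₂v : O₂.valuation ϖ₂ < 1
  hdec : ∀ x ∈ O₂, x ≠ 0 → ∃ (r : ℕ) (u : F₂), u ∈ O₂ ∧ u⁻¹ ∈ O₂ ∧ x = u * ϖ₂ ^ r
  hgen₃ : ∀ z : F₃, ∃ q : F[X], q.natDegree < p ∧ z = aeval θ' q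

namespace XData

variable {pb : PowerBasis F F₂} {θ' : F₃} {O₂ : ValuationSubring F₂} {O₃ : ValuationSubring F₃}
  {a c π : F} {ϖ₂ : F₂} {n N : ℕ} (d : XData p pb θ' O₂ O₃ a c π ϖ₂ n N)

include d

theorem pi_mem : algebraMap F F₃ π ∈ O₃ := (O₃.valuation_le_one_iff _).mp d.hπ.le

theorem pi_pow_mem (k : ℕ) : algebraMap F F₃ (π ^ k) ∈ O₃ := by
  rw [map_pow]; exact pow_mem d.pi_mem k

theorem c_mem : algebraMap F F₃ c ∈ O₃ := by
  obtain ⟨c', hc', rfl⟩ := d.hc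
  rw [map_mul]
  exact O₃.mul_mem _ _ (d.pi_pow_mem _) hc'

theorem theta'_mem : θ' ∈ O₃ := by
  rw [← O₃.valuation_le_one_iff]
  by_contra h
  rw [not_le] at h
  have hp2 := hp.out.two_le
  have h1 : O₃.valuation θ' < O₃.valuation θ' ^ p := by
    calc O₃.valuation θ' = O₃.valuation θ' ^ 1 := (pow_one _).symm
      _ < O₃.valuation θ' ^ p := pow_lt_pow_right₀ h (by omega)
  have h2 : O₃.valuation (algebraMap F F₃ c * θ' + algebraMap F F₃ a) < O₃.valuation θ' ^ p := by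
    refine lt_of_le_of_lt (Valuation.map_add _ _ _) (max_lt ?_ ?_)
    · rw [map_mul]
      calc O₃.valuation (algebraMap F F₃ c) * O₃.valuation θ' ≤ 1 * O₃.valuation θ' :=
            mul_le_mul' ((O₃.valuation_le_one_iff _).mpr d.c_mem) le_rfl
        _ = O₃.valuation θ' := one_mul _
        _ < _ := h1
    · exact lt_of_le_of_lt ((O₃.valuation_le_one_iff _).mpr d.ha) (lt_trans h h1)
  rw [← d.hθ', map_pow] at h2
  exact lt_irrefl _ h2

theorem aeval_mem {q : F[X]} (hq : ∀ i, algebraMap F F₃ (q.coeff i) ∈ O₃) :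
    aeval θ' q ∈ O₃ := by
  rw [aeval_eq_sum_range]
  refine sum_mem fun i _ => ?_
  rw [Algebra.smul_def]
  exact O₃.mul_mem _ _ (hq i) (pow_mem d.theta'_mem i)

theorem mem_of_pow_mem {x : F₃} {k : ℕ} (hk : k ≠ 0) (hx : x ^ k ∈ O₃) : x ∈ O₃ := by
  rw [← O₃.valuation_le_one_iff] at hx ⊢
  rw [map_pow] at hx
  exact (pow_le_one_iff hk).mp hx

theorem pi_ne_zero₃ : algebraMap F F₃ π ≠ 0 := (_root_.map_ne_zero _).mpr d.hπ0

theorem pi_ne_zero₂ : algebraMap F F₂ π ≠ 0 := (_root_.map_ne_zero _).mpr d.hπ0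

/-- `Φ` maps `O₂` into `O₃`. -/
theorem Phi_mem {x : F₂} (hx : x ∈ O₂) : Phi pb θ' x ∈ O₃ := by
  haveI : CharP F₂ p := charP_of_injective_algebraMap (algebraMap F F₂).injective p
  haveI : CharP F₃ p := charP_of_injective_algebraMap (algebraMap F F₃).injective p
  obtain ⟨q, hqdeg, hqO, hqx⟩ := d.hbound x hx
  have hqdeg' : q.natDegree < pb.dim := by rw [d.hdim]; exact hqdeg
  have hΦ : algebraMap F F₃ (π ^ n) * Phi pb θ' x = aeval θ' q := by
    rw [← Phi_smul, hqx, Phi_aeval pb θ' q hqdeg']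
  set b' : F := ∑ i ∈ Finset.range p, q.coeff i ^ p * a ^ i with hb'
  have h2 : algebraMap F F₂ b' = algebraMap F F₂ (π ^ (n * p)) * x ^ p := by
    have h3 : (algebraMap F F₂ (π ^ n) * x) ^ p = (aeval pb.gen q) ^ p := by rw [hqx]
    rw [aeval_eq_sum_range' hqdeg, sum_pow_char, mul_pow, ← map_pow, ← pow_mul] at h3
    rw [h3, hb', map_sum]
    refine Finset.sum_congr rfl fun i _ => ?_
    rw [Algebra.smul_def, mul_pow, ← pow_mul, mul_comm i p, pow_mul, d.hθ, map_mul, map_pow,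
      map_pow]
  set y₁ : F₃ := algebraMap F F₃ c * θ' + algebraMap F F₃ a with hy₁
  set y₂ : F₃ := algebraMap F F₃ a with hy₂
  have hy₁mem : y₁ ∈ O₃ := O₃.add_mem _ _ (O₃.mul_mem _ _ d.c_mem d.theta'_mem) d.ha
  set W : F₃ := ∑ i ∈ Finset.range p, algebraMap F F₃ (q.coeff i ^ p) *
    ∑ j ∈ Finset.range i, y₁ ^ j * y₂ ^ (i - 1 - j) with hW
  have hWmem : W ∈ O₃ := by
    refine sum_mem fun i _ => O₃.mul_mem _ _ ?_ (sum_mem fun j _ => ?_)
    · rw [map_pow]; exact pow_mem (hqO i) p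
    · exact O₃.mul_mem _ _ (pow_mem hy₁mem j) (pow_mem d.ha _)
  have h4 : (aeval θ' q) ^ p = algebraMap F F₃ b' + algebraMap F F₃ c * θ' * W := by
    rw [aeval_eq_sum_range' hqdeg, sum_pow_char, hb', map_sum, hW, Finset.mul_sum,
      ← Finset.sum_add_distrib]
    refine Finset.sum_congr rfl fun i _ => ?_
    have hg := geom_sum₂_mul y₁ y₂ i
    have hsub : y₁ - y₂ = algebraMap F F₃ c * θ' := by rw [hy₁, hy₂]; ring
    rw [hsub] at hg
    rw [Algebra.smul_def, mul_pow, ← pow_mul, mul_comm i p, pow_mul, d.hθ', ← hy₁, map_mul,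
      map_pow, map_pow, ← hy₂]
    have : y₁ ^ i = y₂ ^ i + (∑ j ∈ Finset.range i, y₁ ^ j * y₂ ^ (i - 1 - j)) *
        (algebraMap F F₃ c * θ') := by rw [hg]; ring
    rw [this]
    ring
  have hπp0 : algebraMap F F₃ (π ^ (n * p)) ≠ 0 :=
    (_root_.map_ne_zero _).mpr (pow_ne_zero _ d.hπ0)
  have hπp0' : algebraMap F F₂ (π ^ (n * p)) ≠ 0 :=
    (_root_.map_ne_zero _).mpr (pow_ne_zero _ d.hπ0)
  have hb'mem : algebraMap F F₃ (b' / π ^ (n * p)) ∈ O₃ := by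
    rw [← d.hcomap, map_div₀, h2, mul_div_cancel_left₀ _ hπp0']
    exact pow_mem hx p
  obtain ⟨c', hc', hcc'⟩ := d.hc
  have h5 : (Phi pb θ' x) ^ p = algebraMap F F₃ (b' / π ^ (n * p)) +
      algebraMap F F₃ (π ^ (2 * n + N) * c') * θ' * W := by
    have h6 : algebraMap F F₃ (π ^ (n * p)) * (Phi pb θ' x) ^ p =
        algebraMap F F₃ (π ^ (n * p)) * (algebraMap F F₃ (b' / π ^ (n * p)) +
          algebraMap F F₃ (π ^ (2 * n + N) * c') * θ' * W) := by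
      have h7 : algebraMap F F₃ (π ^ (n * p)) * (Phi pb θ' x) ^ p =
          (algebraMap F F₃ (π ^ n) * Phi pb θ' x) ^ p := by
        rw [mul_pow, ← map_pow (algebraMap F F₃), ← pow_mul]
      rw [h7, hΦ, h4, mul_add, ← map_mul, mul_div_cancel₀ _ (pow_ne_zero _ d.hπ0), hcc',
        ← mul_assoc, ← mul_assoc, ← map_mul]
      congr 3
      ring
    exact mul_left_cancel₀ hπp0 h6
  apply d.mem_of_pow_mem hp.out.ne_zero
  rw [h5]
  refine O₃.add_mem _ _ hb'mem (O₃.mul_mem _ _ (O₃.mul_mem _ _ ?_ d.theta'_mem) hWmem)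
  rw [map_mul]
  exact O₃.mul_mem _ _ (d.pi_pow_mem _) hc'

/-- `Φ` is multiplicative modulo `π ^ N` on `O₂`. -/
theorem Phi_mul {x y : F₂} (hx : x ∈ O₂) (hy : y ∈ O₂) :
    ∃ w ∈ O₃, Phi pb θ' x * Phi pb θ' y =
      Phi pb θ' (x * y) + algebraMap F F₃ (π ^ N) * w := by
  obtain ⟨q, hqdeg, hqO, hqx⟩ := d.hbound x hx
  obtain ⟨r, hrdeg, hrO, hry⟩ := d.hbound y hy
  set O : ValuationSubring F := O₃.comap (algebraMap F F₃) with hO
  have hqL : q ∈ Polynomial.lifts O.subtype :=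
    (lifts_iff_coeff_lifts q).mpr fun i => ⟨⟨q.coeff i, hqO i⟩, rfl⟩
  have hrL : r ∈ Polynomial.lifts O.subtype :=
    (lifts_iff_coeff_lifts r).mpr fun i => ⟨⟨r.coeff i, hrO i⟩, rfl⟩
  obtain ⟨q', hq'⟩ := (mem_lifts q).mp hqL
  obtain ⟨r', hr'⟩ := (mem_lifts r).mp hrL
  set g' : (↥O)[X] := X ^ p - C (⟨a, d.ha⟩ : O) with hg'
  have hg'mon : g'.Monic := monic_X_pow_sub_C _ hp.out.ne_zero
  have hg'deg : g'.natDegree = p := natDegree_X_pow_sub_C
  have hg'1 : g' ≠ 1 := by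
    intro h1
    have := hg'deg
    rw [h1, natDegree_one] at this
    exact hp.out.ne_zero this.symm
  set g : F[X] := X ^ p - C a with hg
  have hgmap : g'.map O.subtype = g := by
    rw [hg', hg, Polynomial.map_sub, Polynomial.map_pow, map_X, map_C]
    rfl
  set T : F[X] := ((q' * r') /ₘ g').map O.subtype with hT
  set S : F[X] := ((q' * r') %ₘ g').map O.subtype with hS
  have hqr : q * r = S + g * T := by
    rw [hS, hT, ← hgmap, ← Polynomial.map_mul, ← Polynomial.map_add, modByMonic_add_div,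
      Polynomial.map_mul, hq', hr']
  have hSdeg : S.natDegree < p := by
    refine lt_of_le_of_lt natDegree_map_le ?_
    have := natDegree_modByMonic_lt (q' * r') hg'mon hg'1
    rwa [hg'deg] at this
  have hSdeg' : S.natDegree < pb.dim := by rw [d.hdim]; exact hSdeg
  have hTO : ∀ i, algebraMap F F₃ (T.coeff i) ∈ O₃ := by
    intro i
    rw [hT, coeff_map]
    exact (((q' * r') /ₘ g').coeff i).2
  have hTmem : aeval θ' T ∈ O₃ := d.aeval_mem hTO
  have hg2 : aeval pb.gen g = 0 := by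
    rw [hg, map_sub, map_pow, aeval_X, aeval_C, d.hθ, sub_self]
  have hg3 : aeval θ' g = algebraMap F F₃ c * θ' := by
    rw [hg, map_sub, map_pow, aeval_X, aeval_C, d.hθ']
    ring
  have h1 : algebraMap F F₂ (π ^ n * π ^ n) * (x * y) = aeval pb.gen S := by
    have : algebraMap F F₂ (π ^ n * π ^ n) * (x * y) =
        (algebraMap F F₂ (π ^ n) * x) * (algebraMap F F₂ (π ^ n) * y) := by
      rw [map_mul]; ring
    rw [this, hqx, hry, ← map_mul, hqr, map_add, map_mul, hg2, zero_mul, add_zero]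
  have h2 : algebraMap F F₃ (π ^ n * π ^ n) * Phi pb θ' (x * y) = aeval θ' S := by
    rw [← Phi_smul, h1, Phi_aeval pb θ' S hSdeg']
  have hqdeg' : q.natDegree < pb.dim := by rw [d.hdim]; exact hqdeg
  have hrdeg' : r.natDegree < pb.dim := by rw [d.hdim]; exact hrdeg
  have hΦx : algebraMap F F₃ (π ^ n) * Phi pb θ' x = aeval θ' q := by
    rw [← Phi_smul, hqx, Phi_aeval pb θ' q hqdeg']
  have hΦy : algebraMap F F₃ (π ^ n) * Phi pb θ' y = aeval θ' r := by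
    rw [← Phi_smul, hry, Phi_aeval pb θ' r hrdeg']
  have h3 : algebraMap F F₃ (π ^ n * π ^ n) * (Phi pb θ' x * Phi pb θ' y) =
      aeval θ' S + algebraMap F F₃ c * θ' * aeval θ' T := by
    have : algebraMap F F₃ (π ^ n * π ^ n) * (Phi pb θ' x * Phi pb θ' y) =
        (algebraMap F F₃ (π ^ n) * Phi pb θ' x) * (algebraMap F F₃ (π ^ n) * Phi pb θ' y) := by
      rw [map_mul]; ring
    rw [this, hΦx, hΦy, ← map_mul, hqr, map_add, map_mul, hg3]
  obtain ⟨c', hc', hcc'⟩ := d.hc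
  refine ⟨algebraMap F F₃ (π ^ (n * p) * c') * θ' * aeval θ' T, ?_, ?_⟩
  · refine O₃.mul_mem _ _ (O₃.mul_mem _ _ ?_ d.theta'_mem) hTmem
    rw [map_mul]
    exact O₃.mul_mem _ _ (d.pi_pow_mem _) hc'
  · have hne : algebraMap F F₃ (π ^ n * π ^ n) ≠ 0 :=
      (_root_.map_ne_zero _).mpr (mul_ne_zero (pow_ne_zero _ d.hπ0) (pow_ne_zero _ d.hπ0))
    apply mul_left_cancel₀ hne
    rw [h3, mul_add, h2, hcc']
    congr 1
    have : (π ^ (n * p + 2 * n + N) * c' : F) = π ^ n * π ^ n * (π ^ N * (π ^ (n * p) * c')) := by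
      ring
    rw [this, map_mul (algebraMap F F₃) (π ^ n * π ^ n), map_mul (algebraMap F F₃) (π ^ N)]
    ring

theorem Phi_one' : Phi pb θ' 1 = 1 := Phi_one pb θ' (by rw [d.hdim]; exact hp.out.pos)

theorem vpi_pos : 0 < O₃.valuation (algebraMap F F₃ π) := by
  rw [pos_iff_ne_zero]; exact (Valuation.ne_zero_iff _).mpr d.pi_ne_zero₃

theorem val_small {w : F₃} (hw : w ∈ O₃) :
    O₃.valuation (algebraMap F F₃ (π ^ N) * w) ≤ O₃.valuation (algebraMap F F₃ π) ^ N := by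
  rw [map_mul, map_pow, map_pow]
  calc O₃.valuation (algebraMap F F₃ π) ^ N * O₃.valuation w
      ≤ O₃.valuation (algebraMap F F₃ π) ^ N * 1 :=
        mul_le_mul' le_rfl ((O₃.valuation_le_one_iff _).mpr hw)
    _ = _ := mul_one _

theorem vpi_pow_lt : O₃.valuation (algebraMap F F₃ π) ^ N < O₃.valuation (algebraMap F F₃ π) :=
  pow_lt_self_of_lt_one₀ d.vpi_pos d.hπ (by have := d.hN; omega)

theorem val_small_lt {w : F₃} (hw : w ∈ O₃) :
    O₃.valuation (algebraMap F F₃ (π ^ N) * w) < O₃.valuation (algebraMap F F₃ π) :=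
  lt_of_le_of_lt (d.val_small hw) d.vpi_pow_lt

theorem val_small_lt_one {w : F₃} (hw : w ∈ O₃) :
    O₃.valuation (algebraMap F F₃ (π ^ N) * w) < 1 :=
  lt_trans (d.val_small_lt hw) d.hπ

/-- `Φ` maps units to units. -/
theorem val_Phi_unit {u : F₂} (hu : u ∈ O₂) (hu' : u⁻¹ ∈ O₂) (hu0 : u ≠ 0) :
    O₃.valuation (Phi pb θ' u) = 1 := by
  obtain ⟨w, hw, e⟩ := d.Phi_mul hu hu'
  rw [mul_inv_cancel₀ hu0, d.Phi_one'] at e
  have h1 : O₃.valuation (Phi pb θ' u) ≤ 1 := (O₃.valuation_le_one_iff _).mpr (d.Phi_mem hu)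
  have h2 : O₃.valuation (Phi pb θ' u⁻¹) ≤ 1 := (O₃.valuation_le_one_iff _).mpr (d.Phi_mem hu')
  have h3 : O₃.valuation (Phi pb θ' u) * O₃.valuation (Phi pb θ' u⁻¹) = 1 := by
    rw [← map_mul, e]
    exact Valuation.map_one_add_of_lt _ (d.val_small_lt_one hw)
  by_contra hne
  have hlt : O₃.valuation (Phi pb θ' u) < 1 := lt_of_le_of_ne h1 hne
  have : O₃.valuation (Phi pb θ' u) * O₃.valuation (Phi pb θ' u⁻¹) < 1 :=
    mul_lt_one_of_nonneg_of_lt_one_left zero_le' hlt h2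
  rw [h3] at this
  exact lt_irrefl _ this

theorem Phi_mul_pow {u : F₂} (hu : u ∈ O₂) (r : ℕ) :
    ∃ w ∈ O₃, Phi pb θ' (u * ϖ₂ ^ r) =
      Phi pb θ' u * (Phi pb θ' ϖ₂) ^ r + algebraMap F F₃ (π ^ N) * w := by
  induction r with
  | zero => exact ⟨0, O₃.zero_mem, by rw [pow_zero, pow_zero, mul_one, mul_one, mul_zero, add_zero]⟩
  | succ r ih =>
    obtain ⟨w₀, hw₀, e₀⟩ := ih
    obtain ⟨w₁, hw₁, e₁⟩ := d.Phi_mul (O₂.mul_mem _ _ hu (pow_mem d.hϖ₂ r)) d.hϖ₂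
    refine ⟨w₀ * Phi pb θ' ϖ₂ - w₁,
      sub_mem (O₃.mul_mem _ _ hw₀ (d.Phi_mem d.hϖ₂)) hw₁, ?_⟩
    have : u * ϖ₂ ^ (r + 1) = u * ϖ₂ ^ r * ϖ₂ := by ring
    rw [this]
    have e₂ : Phi pb θ' (u * ϖ₂ ^ r * ϖ₂) =
        Phi pb θ' (u * ϖ₂ ^ r) * Phi pb θ' ϖ₂ - algebraMap F F₃ (π ^ N) * w₁ := by
      rw [e₁]; ring
    rw [e₂, e₀]
    ring

theorem pi_mem₂ : algebraMap F F₂ π ∈ O₂ := (d.hcomap π).mpr d.pi_mem

/-- The decomposition of `π` in `O₂` and the valuation of `Φ ϖ₂`. -/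
theorem exists_e : ∃ (e : ℕ) (u' : F₂), 0 < e ∧ u' ∈ O₂ ∧ u'⁻¹ ∈ O₂ ∧ u' ≠ 0 ∧
    algebraMap F F₂ π = u' * ϖ₂ ^ e ∧
    O₃.valuation (Phi pb θ' ϖ₂) ^ e = O₃.valuation (algebraMap F F₃ π) := by
  obtain ⟨e, u', hu', hu'inv, he⟩ := d.hdec _ d.pi_mem₂ d.pi_ne_zero₂
  have hu'0 : u' ≠ 0 := by
    rintro rfl
    rw [zero_mul] at he
    exact d.pi_ne_zero₂ he
  have he0 : 0 < e := by
    rw [pos_iff_ne_zero]
    rintro rfl
    rw [pow_zero, mul_one] at he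
    have h1 : algebraMap F F₂ π⁻¹ ∈ O₂ := by rw [map_inv₀, he]; exact hu'inv
    have h2 : algebraMap F F₃ π⁻¹ ∈ O₃ := (d.hcomap _).mp h1
    rw [← O₃.valuation_le_one_iff, map_inv₀, map_inv₀, inv_le_one₀ d.vpi_pos] at h2
    exact absurd d.hπ (not_lt.mpr h2)
  refine ⟨e, u', he0, hu', hu'inv, hu'0, he, ?_⟩
  obtain ⟨w, hw, ew⟩ := d.Phi_mul_pow hu' e
  have h1 : Phi pb θ' (algebraMap F F₂ π) = algebraMap F F₃ π := by
    have := Phi_smul pb θ' π 1
    rwa [mul_one, d.Phi_one', mul_one] at this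
  rw [← he, h1] at ew
  have h2 : Phi pb θ' u' * Phi pb θ' ϖ₂ ^ e =
      algebraMap F F₃ π - algebraMap F F₃ (π ^ N) * w := by rw [ew]; ring
  have h3 : O₃.valuation (Phi pb θ' u' * Phi pb θ' ϖ₂ ^ e) =
      O₃.valuation (algebraMap F F₃ π) := by
    rw [h2]
    exact Valuation.map_sub_eq_of_lt_left _ (d.val_small_lt hw)
  rwa [map_mul, d.val_Phi_unit hu' hu'inv hu'0, one_mul, map_pow] at h3

theorem val_Phi_unif_lt : O₃.valuation (Phi pb θ' ϖ₂) < 1 := by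
  obtain ⟨e, u', he0, -, -, -, -, hval⟩ := d.exists_e
  have h1 : O₃.valuation (Phi pb θ' ϖ₂) ≤ 1 := (O₃.valuation_le_one_iff _).mpr (d.Phi_mem d.hϖ₂)
  refine lt_of_le_of_ne h1 fun h => ?_
  rw [h, one_pow] at hval
  exact absurd d.hπ (by rw [← hval]; exact lt_irrefl _)

theorem val_Phi_unif_pos : 0 < O₃.valuation (Phi pb θ' ϖ₂) := by
  obtain ⟨e, u', he0, -, -, -, -, hval⟩ := d.exists_e
  rw [pos_iff_ne_zero]
  intro h
  rw [h, zero_pow he0.ne'] at hval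
  exact absurd d.vpi_pos (by rw [← hval]; exact lt_irrefl _)

theorem unif_ne_zero : ϖ₂ ≠ 0 := by
  obtain ⟨e, u', he0, -, -, -, he, -⟩ := d.exists_e
  rintro rfl
  rw [zero_pow he0.ne', mul_zero] at he
  exact d.pi_ne_zero₂ he

/-- Elements of `O₂` not divisible by `π` have images of valuation bigger than that of `π`. -/
theorem val_Phi_gt {x : F₂} (hx : x ∈ O₂) (hx0 : x ≠ 0) (hxπ : x * (algebraMap F F₂ π)⁻¹ ∉ O₂) :
    O₃.valuation (algebraMap F F₃ π) < O₃.valuation (Phi pb θ' x) := by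
  obtain ⟨e, u', he0, hu', hu'inv, hu'0, he, hval⟩ := d.exists_e
  obtain ⟨r, u, hu, huinv, hxr⟩ := d.hdec x hx hx0
  have hu0 : u ≠ 0 := by
    rintro rfl
    rw [zero_mul] at hxr
    exact hx0 hxr
  have hre : r < e := by
    by_contra hge
    rw [not_lt] at hge
    apply hxπ
    obtain ⟨k, rfl⟩ : ∃ k, r = e + k := ⟨r - e, by omega⟩
    have : x * (algebraMap F F₂ π)⁻¹ = u * u'⁻¹ * ϖ₂ ^ k := by
      rw [hxr, he, pow_add]
      field_simp [d.unif_ne_zero]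
    rw [this]
    exact O₂.mul_mem _ _ (O₂.mul_mem _ _ hu hu'inv) (pow_mem d.hϖ₂ k)
  obtain ⟨w, hw, ew⟩ := d.Phi_mul_pow hu r
  rw [← hxr] at ew
  have h1 : O₃.valuation (Phi pb θ' u * Phi pb θ' ϖ₂ ^ r) = O₃.valuation (Phi pb θ' ϖ₂) ^ r := by
    rw [map_mul, d.val_Phi_unit hu huinv hu0, one_mul, map_pow]
  have h2 : O₃.valuation (algebraMap F F₃ π) < O₃.valuation (Phi pb θ' ϖ₂) ^ r := by
    rw [← hval]
    exact pow_lt_pow_right_of_lt_one₀ d.val_Phi_unif_pos d.val_Phi_unif_lt hre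
  rw [ew, Valuation.map_add_eq_of_lt_left, h1]
  · exact h2
  · rw [h1]; exact lt_trans (d.val_small_lt hw) h2

theorem exists_pow_mul_mem (y : F₂) : ∃ j : ℕ, algebraMap F F₂ π ^ j * y ∈ O₂ := by
  by_cases hy : y ∈ O₂
  · exact ⟨0, by rw [pow_zero, one_mul]; exact hy⟩
  have hyinv : y⁻¹ ∈ O₂ := (O₂.mem_or_inv_mem y).resolve_left hy
  have hy0 : y ≠ 0 := fun h => hy (by rw [h]; exact O₂.zero_mem)
  obtain ⟨e, u', he0, hu', hu'inv, hu'0, he, hval⟩ := d.exists_e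
  obtain ⟨r, u, hu, huinv, hyr⟩ := d.hdec y⁻¹ hyinv (inv_ne_zero hy0)
  obtain ⟨e', rfl⟩ : ∃ e', e = e' + 1 := ⟨e - 1, by omega⟩
  refine ⟨r, ?_⟩
  have hu0 : u ≠ 0 := by
    rintro rfl
    rw [zero_mul] at hyr
    exact inv_ne_zero hy0 hyr
  have : algebraMap F F₂ π ^ r * y = u' ^ r * u⁻¹ * (ϖ₂ ^ e') ^ r := by
    have hy' : y = (u * ϖ₂ ^ r)⁻¹ := by rw [← hyr, inv_inv]
    rw [hy', he, pow_succ]
    field_simp [d.unif_ne_zero]
    ring
  rw [this]
  exact O₂.mul_mem _ _ (O₂.mul_mem _ _ (pow_mem hu' r) huinv) (pow_mem (pow_mem d.hϖ₂ e') r)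

/-- Every element of `O₃` is the image of an element of `O₂`. -/
theorem exists_preimage {z : F₃} (hz : z ∈ O₃) : ∃ y ∈ O₂, Phi pb θ' y = z := by
  classical
  obtain ⟨q, hqdeg, rfl⟩ := d.hgen₃ z
  have hqdeg' : q.natDegree < pb.dim := by rw [d.hdim]; exact hqdeg
  refine ⟨aeval pb.gen q, ?_, Phi_aeval pb θ' q hqdeg'⟩
  set y : F₂ := aeval pb.gen q with hy
  have hΦy : Phi pb θ' y = aeval θ' q := Phi_aeval pb θ' q hqdeg'
  by_contra hyO
  have hy0 : y ≠ 0 := fun h => hyO (by rw [h]; exact O₂.zero_mem)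
  have hex := d.exists_pow_mul_mem y
  set j := Nat.find hex with hj
  have hjmem : algebraMap F F₂ π ^ j * y ∈ O₂ := Nat.find_spec hex
  have hj0 : j ≠ 0 := by
    intro h0
    rw [h0, pow_zero, one_mul] at hjmem
    exact hyO hjmem
  obtain ⟨k, hk⟩ : ∃ k, j = k + 1 := ⟨j - 1, by omega⟩
  have hkmem : algebraMap F F₂ π ^ k * y ∉ O₂ := Nat.find_min hex (by rw [← hj, hk]; omega)
  have h1 := d.val_Phi_gt hjmem (mul_ne_zero (pow_ne_zero _ d.pi_ne_zero₂) hy0) (by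
    have : algebraMap F F₂ π ^ j * y * (algebraMap F F₂ π)⁻¹ = algebraMap F F₂ π ^ k * y := by
      rw [hk, pow_succ]
      field_simp [d.pi_ne_zero₂]
    rw [this]
    exact hkmem)
  rw [← map_pow, Phi_smul, hΦy, map_mul, map_pow, map_pow] at h1
  have h2 : O₃.valuation (algebraMap F F₃ π) ^ j * O₃.valuation (aeval θ' q) ≤
      O₃.valuation (algebraMap F F₃ π) := by
    calc O₃.valuation (algebraMap F F₃ π) ^ j * O₃.valuation (aeval θ' q)
        ≤ O₃.valuation (algebraMap F F₃ π) ^ j * 1 :=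
          mul_le_mul' le_rfl ((O₃.valuation_le_one_iff _).mpr hz)
      _ = O₃.valuation (algebraMap F F₃ π) ^ j := mul_one _
      _ ≤ O₃.valuation (algebraMap F F₃ π) := pow_le_of_le_one zero_le' d.hπ.le hj0
  exact absurd h1 (not_lt.mpr h2)

theorem val_unit₂ {u : F₂} (hu : u ∈ O₂) (hu' : u⁻¹ ∈ O₂) (hu0 : u ≠ 0) :
    O₂.valuation u = 1 := by
  have h1 : O₂.valuation u ≤ 1 := (O₂.valuation_le_one_iff _).mpr hu
  have h2 : O₂.valuation u⁻¹ ≤ 1 := (O₂.valuation_le_one_iff _).mpr hu'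
  rw [map_inv₀, inv_le_one₀ (by rw [pos_iff_ne_zero]; exact (Valuation.ne_zero_iff _).mpr hu0)]
    at h2
  exact le_antisymm h1 h2

/-- `Φ` maps the maximal ideal into the maximal ideal. -/
theorem val_Phi_lt_one {y : F₂} (hy : y ∈ O₂) (hyv : O₂.valuation y < 1) :
    O₃.valuation (Phi pb θ' y) < 1 := by
  by_cases hy0 : y = 0
  · rw [hy0, map_zero, map_zero]; exact zero_lt_one
  obtain ⟨r, u, hu, huinv, hyr⟩ := d.hdec y hy hy0
  have hu0 : u ≠ 0 := by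
    rintro rfl
    rw [zero_mul] at hyr
    exact hy0 hyr
  have hr0 : r ≠ 0 := by
    rintro rfl
    rw [pow_zero, mul_one] at hyr
    rw [hyr, d.val_unit₂ hu huinv hu0] at hyv
    exact lt_irrefl _ hyv
  obtain ⟨w, hw, ew⟩ := d.Phi_mul_pow hu r
  rw [← hyr] at ew
  rw [ew]
  refine Valuation.map_add_lt _ ?_ (d.val_small_lt_one hw)
  rw [map_mul, d.val_Phi_unit hu huinv hu0, one_mul, map_pow]
  exact pow_lt_one₀ zero_le' d.val_Phi_unif_lt hr0

/-- The maximal ideal of `O₃` is generated by `Φ ϖ₂`. -/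
theorem exists_eq_mul {z : F₃} (hz : O₃.valuation z < 1) :
    ∃ w ∈ O₃, z = Phi pb θ' ϖ₂ * w := by
  have hzO : z ∈ O₃ := (O₃.valuation_le_one_iff _).mp hz.le
  obtain ⟨y, hy, rfl⟩ := d.exists_preimage hzO
  by_cases hy0 : y = 0
  · exact ⟨0, O₃.zero_mem, by rw [hy0, map_zero, mul_zero]⟩
  obtain ⟨r, u, hu, huinv, hyr⟩ := d.hdec y hy hy0
  have hu0 : u ≠ 0 := by
    rintro rfl
    rw [zero_mul] at hyr
    exact hy0 hyr
  have hr0 : r ≠ 0 := by
    rintro rfl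
    rw [pow_zero, mul_one] at hyr
    rw [hyr, d.val_Phi_unit hu huinv hu0] at hz
    exact lt_irrefl _ hz
  obtain ⟨k, rfl⟩ : ∃ k, r = k + 1 := ⟨r - 1, by omega⟩
  obtain ⟨w, hw, ew⟩ := d.Phi_mul_pow hu (k + 1)
  rw [← hyr] at ew
  obtain ⟨e, u', he0, -, -, -, -, hval⟩ := d.exists_e
  have hϖ0 : Phi pb θ' ϖ₂ ≠ 0 := (Valuation.ne_zero_iff _).mp d.val_Phi_unif_pos.ne'
  set t : F₃ := algebraMap F F₃ π / Phi pb θ' ϖ₂ with ht
  have htmem : t ∈ O₃ := by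
    rw [← O₃.valuation_le_one_iff, ht, map_div₀, div_le_one₀ d.val_Phi_unif_pos, ← hval]
    exact pow_le_of_le_one zero_le' d.val_Phi_unif_lt.le he0.ne'
  obtain ⟨N', hN'⟩ : ∃ N', N = N' + 1 := ⟨N - 1, by have := d.hN; omega⟩
  refine ⟨Phi pb θ' u * Phi pb θ' ϖ₂ ^ k + t * algebraMap F F₃ (π ^ N') * w, ?_, ?_⟩
  · refine O₃.add_mem _ _ (O₃.mul_mem _ _ (d.Phi_mem hu) (pow_mem (d.Phi_mem d.hϖ₂) k))
      (O₃.mul_mem _ _ (O₃.mul_mem _ _ htmem (d.pi_pow_mem _)) hw)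
  · rw [ew, hN', pow_succ π N', map_mul, ht]
    field_simp
    ring

/-- The induced surjection of residue fields. -/
theorem exists_residue_hom : ∃ ρ : ResidueField O₂ →+* ResidueField O₃, Function.Surjective ρ ∧
    ∀ (x : F₂) (hx : x ∈ O₂),
      ρ (residue O₂ ⟨x, hx⟩) = residue O₃ ⟨Phi pb θ' x, d.Phi_mem hx⟩ := by
  have hmax : ∀ {z : F₃} (hz : z ∈ O₃), O₃.valuation z < 1 →
      (⟨z, hz⟩ : O₃) ∈ maximalIdeal O₃ := fun {z} hz hv =>
    (O₃.valuation_lt_one_iff ⟨z, hz⟩).mpr hv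
  let f : O₂ →+* ResidueField O₃ :=
    { toFun := fun x => residue O₃ ⟨Phi pb θ' x.1, d.Phi_mem x.2⟩
      map_one' := by
        have : (⟨Phi pb θ' ((1 : O₂) : F₂), d.Phi_mem (1 : O₂).2⟩ : O₃) = 1 :=
          Subtype.ext d.Phi_one'
        show residue O₃ _ = 1
        rw [this, map_one]
      map_mul' := by
        intro x y
        obtain ⟨w, hw, e⟩ := d.Phi_mul x.2 y.2
        show residue O₃ _ = residue O₃ _ * residue O₃ _
        rw [← map_mul]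
        apply Ideal.Quotient.eq.mpr
        have hmem : algebraMap F F₃ (π ^ N) * w ∈ O₃ := O₃.mul_mem _ _ (d.pi_pow_mem _) hw
        have : (⟨Phi pb θ' ((x * y : O₂) : F₂), d.Phi_mem (x * y).2⟩ : O₃) -
            ⟨Phi pb θ' x.1, d.Phi_mem x.2⟩ * ⟨Phi pb θ' y.1, d.Phi_mem y.2⟩ =
            -⟨algebraMap F F₃ (π ^ N) * w, hmem⟩ := by
          apply Subtype.ext
          show Phi pb θ' (x.1 * y.1) - Phi pb θ' x.1 * Phi pb θ' y.1 = -(_ * w)
          rw [e]; ring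
        rw [this]
        exact neg_mem (hmax hmem (d.val_small_lt_one hw))
      map_zero' := by
        have : (⟨Phi pb θ' ((0 : O₂) : F₂), d.Phi_mem (0 : O₂).2⟩ : O₃) = 0 :=
          Subtype.ext (map_zero _)
        show residue O₃ _ = 0
        rw [this, map_zero]
      map_add' := by
        intro x y
        show residue O₃ _ = residue O₃ _ + residue O₃ _
        rw [← map_add]
        congr 1
        exact Subtype.ext (map_add (Phi pb θ') x.1 y.1) }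
  have hf : ∀ x ∈ maximalIdeal O₂, f x = 0 := by
    intro x hx
    have hv : O₂.valuation (x : F₂) < 1 := (O₂.valuation_lt_one_iff x).mp hx
    show residue O₃ _ = 0
    rw [residue_eq_zero_iff]
    exact hmax _ (d.val_Phi_lt_one x.2 hv)
  refine ⟨Ideal.Quotient.lift (maximalIdeal O₂) f hf, ?_, fun x hx => rfl⟩
  intro zbar
  obtain ⟨z, rfl⟩ := residue_surjective zbar
  obtain ⟨y, hy, e⟩ := d.exists_preimage z.2
  refine ⟨residue O₂ ⟨y, hy⟩, ?_⟩
  show residue O₃ _ = residue O₃ z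
  congr 1
  exact Subtype.ext e

end XData

end X

end Groth.Agent.Lib.Helper18.SepSol
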