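import Mathlib
import Groth.Prelude.Def_EtRam
import Groth.Agent.Lib.Helper18.SepSol.Phi
import Groth.Agent.Lib.Helper18.Unram.VNR
import Groth.Agent.Lib.Helper18.Epp.K1Aux

/-! # Transfer of "weakly unramified with separable residue extension" along the approximation -/

set_option autoImplicit false
set_option linter.style.haveILetI false

namespace Groth.Agent.Lib.Helper18.SepSol

open IsLocalRing TensorProduct

universe u

set_option maxHeartbeats 800000 in
theorem transfer {p : ℕ} [Fact p.Prime] {K₁ K₂ K₃ F M₂ M₃ : Type u} [Field K₁] [Field K₂]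
    [Field K₃] [Field F] [Field M₂] [Field M₃] [Algebra K₁ K₂] [Algebra K₁ K₃] [CharP K₁ p]
    [Algebra F M₂] [Algebra F M₃] [CharP F p]
    (j₂ : K₂ →+* M₂) (j₃ : K₃ →+* M₃) (W₂ : ValuationSubring M₂) (W₃ : ValuationSubring M₃)
    {pbV : PowerBasis K₁ K₂} {θV : K₃} {a c π : K₁} {ϖV : K₂} {n N : ℕ}
    (dV : XData p pbV θV (W₂.comap j₂) (W₃.comap j₃) a c π ϖV n N)
    {pbW : PowerBasis F M₂} {θW : M₃} {a' c' π' : F}
    (dW : XData p pbW θW W₂ W₃ a' c' π' (j₂ ϖV) n N)
    (hcompat : ∀ x : K₂, Phi pbW θW (j₂ x) = j₃ (Phi pbV θV x))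
    (hgr₂ : @Algebra.IsGeometricallyReduced (ResidueField (W₂.comap j₂)) (ResidueField W₂) _ _
      (ResidueField.map (EtRam.inclOfComap W₂ j₂)).toAlgebra) :
    (letI : Algebra (W₃.comap j₃) W₃ := (EtRam.inclOfComap W₃ j₃).toAlgebra
     EtRam.IsWeaklyUnramified (W₃.comap j₃) W₃) ∧
    @Algebra.IsGeometricallyReduced (ResidueField (W₃.comap j₃)) (ResidueField W₃) _ _
      (ResidueField.map (EtRam.inclOfComap W₃ j₃)).toAlgebra := by
  constructor
  · apply Epp.weaklyUnramified_comap_of_exists_eq_mul j₃ W₃ (Phi pbV θV ϖV)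
    · rw [← hcompat]; exact dW.Phi_mem dW.hϖ₂
    · rw [← hcompat]; exact dW.val_Phi_unif_lt
    · intro x hx
      rw [← hcompat]
      exact dW.exists_eq_mul hx
  · obtain ⟨ρV, hρVsurj, hρV⟩ := dV.exists_residue_hom
    obtain ⟨ρW, hρWsurj, hρW⟩ := dW.exists_residue_hom
    letI a₂ : Algebra (ResidueField (W₂.comap j₂)) (ResidueField W₂) :=
      (ResidueField.map (EtRam.inclOfComap W₂ j₂)).toAlgebra
    letI a₃ : Algebra (ResidueField (W₃.comap j₃)) (ResidueField W₃) :=
      (ResidueField.map (EtRam.inclOfComap W₃ j₃)).toAlgebra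
    letI a₂₃ : Algebra (ResidueField (W₂.comap j₂)) (ResidueField (W₃.comap j₃)) := ρV.toAlgebra
    letI a₂₃' : Algebra (ResidueField (W₂.comap j₂)) (ResidueField W₃) :=
      ((algebraMap (ResidueField (W₃.comap j₃)) (ResidueField W₃)).comp ρV).toAlgebra
    haveI : IsScalarTower (ResidueField (W₂.comap j₂)) (ResidueField (W₃.comap j₃))
        (ResidueField W₃) := IsScalarTower.of_algebraMap_eq (fun _ => rfl)
    haveI : Algebra.IsAlgebraic (ResidueField (W₂.comap j₂)) (ResidueField (W₃.comap j₃)) :=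
      ⟨fun x => by
        obtain ⟨y, rfl⟩ := hρVsurj x
        exact isAlgebraic_algebraMap y⟩
    haveI : Algebra.IsGeometricallyReduced (ResidueField (W₂.comap j₂)) (ResidueField W₂) := hgr₂
    let g : ResidueField W₂ →ₐ[ResidueField (W₂.comap j₂)] ResidueField W₃ :=
      { ρW with
        commutes' := fun r => by
          obtain ⟨⟨x, hx⟩, rfl⟩ := IsLocalRing.residue_surjective r
          show ρW (ResidueField.map (EtRam.inclOfComap W₂ j₂) (residue _ ⟨x, hx⟩)) =
            ResidueField.map (EtRam.inclOfComap W₃ j₃) (ρV (residue _ ⟨x, hx⟩))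
          rw [ResidueField.map_residue, hρV x hx, ResidueField.map_residue]
          have h1 : EtRam.inclOfComap W₂ j₂ ⟨x, hx⟩ = ⟨j₂ x, hx⟩ := rfl
          rw [h1, hρW (j₂ x) hx]
          congr 1
          exact Subtype.ext (hcompat x) }
    refine Unram.geomReduced_of_surjective g ?_
    intro z
    obtain ⟨e, rfl⟩ := hρWsurj z
    refine ⟨(1 : ResidueField (W₃.comap j₃)) ⊗ₜ e, ?_⟩
    simp only [Algebra.TensorProduct.lift_tmul, map_one, one_mul]
    rfl

end Groth.Agent.Lib.Helper18.SepSol
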