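import Mathlib
import Groth.Prelude.Def_EtRam
import Groth.Prelude.Def_Found
import Groth.Agent.Lib.Helper18.SepSol.Global
import Groth.Agent.Lib.Helper18.SepSol.PlaceAux
import Groth.Agent.Lib.Helper18.SepSol.Transfer
import Groth.Agent.Lib.Helper18.Unram.DVRFin
import Groth.Agent.Lib.Helper18.Epp.K1Aux

/-! # The local analysis at one place -/

set_option autoImplicit false
set_option linter.style.haveILetI false

namespace Groth.Agent.Lib.Helper18.SepSol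

open Polynomial IsLocalRing TensorProduct

universe u

theorem val_lt_one_iff_inv_not_mem {F' : Type*} [Field F'] (V : ValuationSubring F') (y : F')
    (hy0 : y ≠ 0) : V.valuation y < 1 ↔ y⁻¹ ∉ V := by
  rw [← V.valuation_le_one_iff, map_inv₀, not_le,
    one_lt_inv₀ (zero_lt_iff.mpr ((Valuation.ne_zero_iff _).mpr hy0))]

/-- Valuations `< 1` correspond under a field map whose preimage of `W` is `O`. -/
theorem val_lt_one_iff_of_mem_iff {F M : Type*} [Field F] [Field M] (f : F →+* M)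
    (W : ValuationSubring M) (O : ValuationSubring F) (h : ∀ x : F, f x ∈ W ↔ x ∈ O) (x : F) :
    W.valuation (f x) < 1 ↔ O.valuation x < 1 := by
  by_cases hx0 : x = 0
  · rw [hx0, map_zero, map_zero, map_zero]
    exact ⟨fun _ => zero_lt_one, fun _ => zero_lt_one⟩
  have hfx0 : f x ≠ 0 := (_root_.map_ne_zero f).mpr hx0
  rw [val_lt_one_iff_inv_not_mem W (f x) hfx0, val_lt_one_iff_inv_not_mem O x hx0, ← map_inv₀, h]

/-- Integral elements (with respect to a ring map landing in `V`) lie in `V`. -/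
theorem mem_of_isIntegralElem {A M : Type*} [CommRing A] [Field M] (V : ValuationSubring M)
    (f : A →+* M) (hf : ∀ a, f a ∈ V) {x : M} (hx : f.IsIntegralElem x) : x ∈ V := by
  letI : Algebra A M := f.toAlgebra
  exact Eis.mem_of_isIntegral V hf hx

theorem one_tmul_algebraMap {K L K₁ : Type*} [Field K] [Field L] [Field K₁] [Algebra K L]
    [Algebra K K₁] (k : K) :
    (1 : L) ⊗ₜ[K] algebraMap K K₁ k = algebraMap K L k ⊗ₜ[K] (1 : K₁) := by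
  rw [Algebra.algebraMap_eq_smul_one, Algebra.algebraMap_eq_smul_one, TensorProduct.tmul_smul,
    TensorProduct.smul_tmul']

set_option maxHeartbeats 3200000 in
/-- The local step: at every local extension attached to `K₃`, the extension of valuation rings
is weakly unramified with separable residue field extension. -/
theorem place_step {p : ℕ} [hp : Fact p.Prime] {A B K L K₁ K₂ K₃ : Type u}
    [CommRing A] [IsDomain A] [IsDiscreteValuationRing A] [CommRing B] [IsDomain B]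
    [IsDiscreteValuationRing B] [Algebra A B] [IsLocalHom (algebraMap A B)]
    [Field K] [Field L] [Algebra A K] [IsFractionRing A K] [Algebra B L] [IsFractionRing B L]
    [Algebra K L] [Algebra A L] [IsScalarTower A K L] [IsScalarTower A B L] [CharP K p]
    [Algebra.IsGeometricallyReduced K L]
    [Field K₁] [Field K₂] [Field K₃] [Algebra K K₁] [Algebra K K₂] [Algebra K₁ K₂]
    [IsScalarTower K K₁ K₂] [FiniteDimensional K K₁] [FiniteDimensional K K₂]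
    [Algebra K K₃] [Algebra K₁ K₃] [IsScalarTower K K₁ K₃]
    (hsol : EtRam.IsSolution B K L K₂)
    (pb : PowerBasis K₁ K₂) (hdim : pb.dim = p) (a : K₁)
    (ha : pb.gen ^ p = algebraMap K₁ K₂ a)
    (haint : ((algebraMap K K₁).comp (algebraMap A K)).IsIntegralElem a)
    (πA : A) (hπA : Irreducible πA) (n₀ : ℕ)
    (hn₀ : ∀ (𝔓 : Ideal (L ⊗[K] K₂)) [𝔓.IsMaximal] (y : (L ⊗[K] K₂) ⧸ 𝔓),
      IsIntegral B y → (algebraMap A B πA) ^ n₀ • y ∈ NSub (B := B) pb 𝔓)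
    (θ' : K₃)
    (hθ' : θ' ^ p = algebraMap K₁ K₃
      (algebraMap K K₁ (algebraMap A K πA) ^ (n₀ * p + 2 * n₀ + 2)) * θ' + algebraMap K₁ K₃ a)
    (hgenK₃ : ∀ z : K₃, ∃ q : K₁[X], q.natDegree < p ∧ z = aeval θ' q)
    (M₃ : Type u) [Field M₃] [Algebra K M₃] [Algebra L M₃] [Algebra K₃ M₃] [IsScalarTower K L M₃]
    [IsScalarTower K K₃ M₃]
    (hgen : Algebra.adjoin L (Set.range (algebraMap K₃ M₃)) = ⊤) (W₃ : ValuationSubring M₃)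
    (hW₃ : EtRam.Dominates B ((algebraMap L M₃).comp (algebraMap B L)) W₃) :
    (letI : Algebra (W₃.comap (algebraMap K₃ M₃)) W₃ :=
      (EtRam.inclOfComap W₃ (algebraMap K₃ M₃)).toAlgebra
     EtRam.IsWeaklyUnramified (W₃.comap (algebraMap K₃ M₃)) W₃) ∧
    @Algebra.IsGeometricallyReduced (ResidueField (W₃.comap (algebraMap K₃ M₃)))
      (ResidueField W₃) _ _
      (ResidueField.map (EtRam.inclOfComap W₃ (algebraMap K₃ M₃))).toAlgebra := by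
  classical
  haveI : CharP K₁ p := charP_of_injective_algebraMap (algebraMap K K₁).injective p
  haveI : CharP L p := charP_of_injective_algebraMap (algebraMap K L).injective p
  haveI : Algebra.IsAlgebraic K K₁ := Algebra.IsAlgebraic.of_finite K K₁
  haveI : Algebra.IsAlgebraic K K₂ := Algebra.IsAlgebraic.of_finite K K₂
  haveI : IsArtinianRing (L ⊗[K] K₁) := IsArtinianRing.of_finite L _
  haveI : IsReduced (L ⊗[K] K₁) := isReduced_tensor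
  haveI : IsReduced (L ⊗[K] K₂) := isReduced_tensor
  have hp2 : 2 ≤ p := hp.out.two_le
  -- the map to `M₃`
  let j₃ : K₃ →+* M₃ := algebraMap K₃ M₃
  let g₁ : K₁ →ₐ[K] M₃ :=
    (IsScalarTower.toAlgHom K K₃ M₃).comp (IsScalarTower.toAlgHom K K₁ K₃)
  let ψ₁ : L ⊗[K] K₁ →ₐ[L] M₃ :=
    Algebra.TensorProduct.productLeftAlgHom (Algebra.ofId L M₃) g₁
  have hψ₁ : ∀ (l : L) (k : K₁), ψ₁ (l ⊗ₜ[K] k) =
      algebraMap L M₃ l * j₃ (algebraMap K₁ K₃ k) := fun l k => by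
    simp [ψ₁, g₁, j₃, Algebra.ofId_apply]
  set 𝔓₁ : Ideal (L ⊗[K] K₁) := RingHom.ker ψ₁ with h𝔓₁def
  haveI h𝔓₁prime : 𝔓₁.IsPrime := RingHom.ker_isPrime _
  haveI h𝔓₁ : 𝔓₁.IsMaximal := IsArtinianRing.isMaximal_of_isPrime 𝔓₁
  letI fieldF : Field ((L ⊗[K] K₁) ⧸ 𝔓₁) := Ideal.Quotient.field 𝔓₁
  let mk₁ : L ⊗[K] K₁ →ₐ[L] (L ⊗[K] K₁) ⧸ 𝔓₁ := Ideal.Quotient.mkₐ L 𝔓₁
  let ι₃ : (L ⊗[K] K₁) ⧸ 𝔓₁ →ₐ[L] M₃ := Ideal.Quotient.liftₐ 𝔓₁ ψ₁ (fun a ha => ha)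
  have hι₃mk : ∀ z, ι₃ (mk₁ z) = ψ₁ z := fun z => rfl
  -- the prime above
  obtain ⟨𝔓₂, h𝔓₂max, h𝔓₂⟩ := exists_over (K := K) (L := L) (K₁ := K₁) (K₂ := K₂) 𝔓₁
  haveI := h𝔓₂max
  letI fieldM₂ : Field ((L ⊗[K] K₂) ⧸ 𝔓₂) := Ideal.Quotient.field 𝔓₂
  let mk₂ : L ⊗[K] K₂ →ₐ[L] (L ⊗[K] K₂) ⧸ 𝔓₂ := Ideal.Quotient.mkₐ L 𝔓₂
  let φ := phi K L K₁ K₂
  let ι₂ : (L ⊗[K] K₁) ⧸ 𝔓₁ →ₐ[L] (L ⊗[K] K₂) ⧸ 𝔓₂ :=
    Ideal.quotientMapₐ 𝔓₂ φ (le_of_eq h𝔓₂.symm)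
  have hι₂mk : ∀ z, ι₂ (mk₁ z) = mk₂ (φ z) := fun z => rfl
  letI algK₂M₂ : Algebra K₂ ((L ⊗[K] K₂) ⧸ 𝔓₂) :=
    ((Ideal.Quotient.mk 𝔓₂).comp
      (Algebra.TensorProduct.includeRight : K₂ →ₐ[K] L ⊗[K] K₂).toRingHom).toAlgebra
  haveI : IsScalarTower K K₂ ((L ⊗[K] K₂) ⧸ 𝔓₂) := IsScalarTower.of_algebraMap_eq (fun k => by
    show Ideal.Quotient.mk 𝔓₂ (algebraMap K (L ⊗[K] K₂) k) =
      Ideal.Quotient.mk 𝔓₂ ((Algebra.TensorProduct.includeRight : K₂ →ₐ[K] L ⊗[K] K₂)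
        (algebraMap K K₂ k))
    rw [AlgHom.commutes])
  let j₂ : K₂ →+* (L ⊗[K] K₂) ⧸ 𝔓₂ := algebraMap K₂ ((L ⊗[K] K₂) ⧸ 𝔓₂)
  have hj₂ : ∀ k : K₂, j₂ k = mk₂ ((1 : L) ⊗ₜ[K] k) := fun k => rfl
  have hgen₂ : Algebra.adjoin L (Set.range (algebraMap K₂ ((L ⊗[K] K₂) ⧸ 𝔓₂))) = ⊤ := by
    have key : ∀ t : L ⊗[K] K₂, Ideal.Quotient.mk 𝔓₂ t ∈
        Algebra.adjoin L (Set.range (algebraMap K₂ ((L ⊗[K] K₂) ⧸ 𝔓₂))) := by
      intro t
      induction t using TensorProduct.induction_on with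
      | zero => rw [map_zero]; exact zero_mem _
      | tmul l k =>
        have : Ideal.Quotient.mk 𝔓₂ (l ⊗ₜ[K] k) =
            l • algebraMap K₂ ((L ⊗[K] K₂) ⧸ 𝔓₂) k := by
          show _ = l • Ideal.Quotient.mk 𝔓₂ ((1 : L) ⊗ₜ[K] k)
          rw [← Ideal.Quotient.mkₐ_eq_mk L, ← map_smul, TensorProduct.smul_tmul', smul_eq_mul,
            mul_one]
        rw [this]
        exact Subalgebra.smul_mem _ (Algebra.subset_adjoin (Set.mem_range_self k)) l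
      | add t t' ht ht' => rw [map_add]; exact add_mem ht ht'
    rw [eq_top_iff]
    intro x _
    obtain ⟨t, rfl⟩ := Ideal.Quotient.mk_surjective x
    exact key t
  -- the algebra structures over `F`
  letI algFM₂ : Algebra ((L ⊗[K] K₁) ⧸ 𝔓₁) ((L ⊗[K] K₂) ⧸ 𝔓₂) := ι₂.toRingHom.toAlgebra
  letI algFM₃ : Algebra ((L ⊗[K] K₁) ⧸ 𝔓₁) M₃ := ι₃.toRingHom.toAlgebra
  have halgFM₂ : ∀ f, algebraMap ((L ⊗[K] K₁) ⧸ 𝔓₁) ((L ⊗[K] K₂) ⧸ 𝔓₂) f = ι₂ f := fun f => rfl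
  have halgFM₃ : ∀ f, algebraMap ((L ⊗[K] K₁) ⧸ 𝔓₁) M₃ f = ι₃ f := fun f => rfl
  haveI : CharP ((L ⊗[K] K₁) ⧸ 𝔓₁) p :=
    charP_of_injective_algebraMap (algebraMap L ((L ⊗[K] K₁) ⧸ 𝔓₁)).injective p
  haveI : CharP ((L ⊗[K] K₂) ⧸ 𝔓₂) p :=
    charP_of_injective_algebraMap (algebraMap L ((L ⊗[K] K₂) ⧸ 𝔓₂)).injective p
  haveI : CharP M₃ p := charP_of_injective_algebraMap (algebraMap L M₃).injective p
  let κ : K₁ →+* (L ⊗[K] K₁) ⧸ 𝔓₁ :=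
    (mk₁ : L ⊗[K] K₁ →+* _).comp
      (Algebra.TensorProduct.includeRight : K₁ →ₐ[K] L ⊗[K] K₁).toRingHom
  have hκ : ∀ k : K₁, κ k = mk₁ ((1 : L) ⊗ₜ[K] k) := fun k => rfl
  have hι₂κ : ∀ k : K₁, ι₂ (κ k) = j₂ (algebraMap K₁ K₂ k) := by
    intro k
    rw [hκ, hι₂mk, hj₂]
    show mk₂ (phi K L K₁ K₂ _) = _
    rw [phi_tmul]
  have hι₃κ : ∀ k : K₁, ι₃ (κ k) = j₃ (algebraMap K₁ K₃ k) := by
    intro k
    rw [hκ, hι₃mk, hψ₁, map_one, one_mul]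
  -- the element `θ₂`
  set Θ : L ⊗[K] K₂ := (1 : L) ⊗ₜ[K] pb.gen with hΘ
  set θ₂ : (L ⊗[K] K₂) ⧸ 𝔓₂ := mk₂ Θ with hθ₂
  have hθ₂j : θ₂ = j₂ pb.gen := rfl
  have hθ₂p : θ₂ ^ p = ι₂ (κ a) := by
    rw [hθ₂j, ← map_pow, ha, hι₂κ]
  -- every element of `M₂` is a polynomial in `θ₂` of degree `< p`
  have hexp : ∀ x : (L ⊗[K] K₂) ⧸ 𝔓₂, ∃ g : ℕ → (L ⊗[K] K₁) ⧸ 𝔓₁,
      x = ∑ k ∈ Finset.range p, ι₂ (g k) * θ₂ ^ k := by
    intro x
    obtain ⟨z, rfl⟩ := Ideal.Quotient.mk_surjective x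
    obtain ⟨g, hg⟩ := exists_expansion (K := K) (L := L) pb z
    refine ⟨fun k => mk₁ (g k), ?_⟩
    rw [hdim] at hg
    have : Ideal.Quotient.mk 𝔓₂ z = mk₂ z := rfl
    rw [this, hg, map_sum]
    refine Finset.sum_congr rfl fun k _ => ?_
    rw [map_mul, map_pow, hι₂mk]
  have hpow : ∀ x : (L ⊗[K] K₂) ⧸ 𝔓₂, ∃ f : (L ⊗[K] K₁) ⧸ 𝔓₁,
      x ^ p = algebraMap ((L ⊗[K] K₁) ⧸ 𝔓₁) ((L ⊗[K] K₂) ⧸ 𝔓₂) f := by
    intro x
    obtain ⟨g, rfl⟩ := hexp x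
    refine ⟨∑ k ∈ Finset.range p, g k ^ p * κ a ^ k, ?_⟩
    rw [sum_pow_char, halgFM₂, map_sum]
    refine Finset.sum_congr rfl fun k _ => ?_
    rw [mul_pow, ← pow_mul, mul_comm k p, pow_mul, hθ₂p, map_mul, map_pow, map_pow]
  -- the valuation rings
  obtain ⟨W₁, hW₁⟩ : ∃ W : ValuationSubring ((L ⊗[K] K₁) ⧸ 𝔓₁),
      W = W₃.comap (ι₃ : _ →+* M₃) := ⟨_, rfl⟩
  obtain ⟨W₂, hW₂⟩ : ∃ W : ValuationSubring ((L ⊗[K] K₂) ⧸ 𝔓₂),
      W = powSub p (algebraMap ((L ⊗[K] K₁) ⧸ 𝔓₁) ((L ⊗[K] K₂) ⧸ 𝔓₂)) W₁ hpow := ⟨_, rfl⟩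
  have hmemW₁ : ∀ f, f ∈ W₁ ↔ ι₃ f ∈ W₃ := fun f => by rw [hW₁]; rfl
  have hmemW₂ : ∀ f, ι₂ f ∈ W₂ ↔ f ∈ W₁ := fun f => by
    rw [hW₂]; exact map_mem_powSub_iff p f
  have hvalW₁ : ∀ f, W₁.valuation f < 1 ↔ W₃.valuation (ι₃ f) < 1 := fun f =>
    val_lt_one_iff_of_mem_iff (ι₃ : _ →+* M₃) W₃ W₁ (fun x => (hmemW₁ x).symm) f |>.symm
  have hvalW₂ : ∀ f, W₂.valuation (ι₂ f) < 1 ↔ W₃.valuation (ι₃ f) < 1 := fun f =>
    (val_lt_one_iff_of_mem_iff (ι₂ : _ →+* _) W₂ W₁ hmemW₂ f).trans (hvalW₁ f)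
  have hBL₂ : ∀ b : B, (algebraMap L ((L ⊗[K] K₂) ⧸ 𝔓₂)) (algebraMap B L b) =
      ι₂ (algebraMap L ((L ⊗[K] K₁) ⧸ 𝔓₁) (algebraMap B L b)) := fun b => (ι₂.commutes _).symm
  have hBL₃ : ∀ b : B, (algebraMap L M₃) (algebraMap B L b) =
      ι₃ (algebraMap L ((L ⊗[K] K₁) ⧸ 𝔓₁) (algebraMap B L b)) := fun b => (ι₃.commutes _).symm
  have hdom₂ : EtRam.Dominates B
      ((algebraMap L ((L ⊗[K] K₂) ⧸ 𝔓₂)).comp (algebraMap B L)) W₂ := by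
    refine ⟨fun b => ?_, fun b hb => ?_⟩
    · rw [RingHom.comp_apply, hBL₂, hmemW₂, hmemW₁, ← hBL₃]
      exact hW₃.1 b
    · rw [RingHom.comp_apply, hBL₂, hvalW₂, ← hBL₃]
      exact hW₃.2 b hb
  obtain ⟨hwu₂, hgr₂⟩ := hsol ((L ⊗[K] K₂) ⧸ 𝔓₂) hgen₂ W₂ hdom₂
  -- compatibilities of the maps from `A`
  have hchain₂ : ∀ k : K, j₂ (algebraMap K K₂ k) =
      (algebraMap L ((L ⊗[K] K₂) ⧸ 𝔓₂)) (algebraMap K L k) := by
    intro k
    show algebraMap K₂ ((L ⊗[K] K₂) ⧸ 𝔓₂) (algebraMap K K₂ k) = _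
    rw [← IsScalarTower.algebraMap_apply K K₂, IsScalarTower.algebraMap_apply K L]
  have hchain₃ : ∀ k : K, j₃ (algebraMap K₁ K₃ (algebraMap K K₁ k)) =
      (algebraMap L M₃) (algebraMap K L k) := by
    intro k
    show algebraMap K₃ M₃ (algebraMap K₁ K₃ (algebraMap K K₁ k)) = _
    rw [← IsScalarTower.algebraMap_apply K K₁ K₃, ← IsScalarTower.algebraMap_apply K K₃ M₃,
      IsScalarTower.algebraMap_apply K L M₃]
  have hAKL : ∀ a' : A, algebraMap K L (algebraMap A K a') =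
      algebraMap B L (algebraMap A B a') := by
    intro a'
    rw [← IsScalarTower.algebraMap_apply A K L, IsScalarTower.algebraMap_apply A B L]
  have hmemB : ∀ a' : A, a' ∈ maximalIdeal A → algebraMap A B a' ∈ maximalIdeal B := by
    intro a' ha'
    rw [mem_maximalIdeal, mem_nonunits_iff] at ha' ⊢
    exact fun hu => ha' (isUnit_of_map_unit _ _ hu)
  have hπAmem : πA ∈ maximalIdeal A := by
    rw [hπA.maximalIdeal_eq]; exact Ideal.mem_span_singleton_self πA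
  -- `V₂`
  have hdomV₂ : EtRam.Dominates A ((algebraMap K K₂).comp (algebraMap A K)) (W₂.comap j₂) := by
    refine ⟨fun a' => ?_, fun a' ha' => ?_⟩
    · show j₂ _ ∈ W₂
      rw [RingHom.comp_apply, hchain₂, hAKL]; exact hdom₂.1 _
    · rw [Epp.comap_valuation_lt_one_iff, RingHom.comp_apply, hchain₂, hAKL]
      exact hdom₂.2 _ (hmemB a' ha')
  obtain ⟨ϖV, hϖV, hϖV0, hdecV⟩ :=
    Unram.exists_generator' (A := A) (K := K) (W₂.comap j₂) hdomV₂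
  haveI : FiniteDimensional L ((L ⊗[K] K₂) ⧸ 𝔓₂) :=
    Module.Finite.of_surjective (Ideal.Quotient.mkₐ L 𝔓₂).toLinearMap
      (Ideal.Quotient.mkₐ_surjective L 𝔓₂)
  obtain ⟨ϖ', hϖ', hϖ'0, hdec'⟩ := Unram.exists_generator' (A := B) (K := L) W₂ hdom₂
  have hmaxW₂ : maximalIdeal W₂ = Ideal.span {EtRam.inclOfComap W₂ j₂ ϖV} := by
    have h1 : (maximalIdeal (W₂.comap j₂)).map (EtRam.inclOfComap W₂ j₂) = maximalIdeal W₂ :=
      hwu₂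
    rw [← h1, hϖV, Ideal.map_span, Set.image_singleton]
  have hdecW := dec_of_generators W₂ ϖ' hdec' hϖ' (EtRam.inclOfComap W₂ j₂ ϖV) hmaxW₂
  have hdecV' := dec_of_generators (W₂.comap j₂) ϖV hdecV hϖV ϖV hϖV
  -- the uniformizer of `A`
  set πK₁ : K₁ := algebraMap K K₁ (algebraMap A K πA) with hπK₁
  have hπK₁0 : πK₁ ≠ 0 :=
    (_root_.map_ne_zero _).mpr
      ((map_ne_zero_iff _ (IsFractionRing.injective A K)).mpr hπA.ne_zero)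
  have hι₃π : ι₃ (κ πK₁) = (algebraMap L M₃) (algebraMap B L (algebraMap A B πA)) := by
    rw [hι₃κ, hπK₁, hchain₃, hAKL]
  have hvπ : W₃.valuation (ι₃ (κ πK₁)) < 1 := by
    rw [hι₃π]; exact hW₃.2 _ (hmemB πA hπAmem)
  have haW₃ : ι₃ (κ a) ∈ W₃ := by
    rw [hι₃κ]
    let fA : A →+* M₃ :=
      (j₃.comp (algebraMap K₁ K₃)).comp ((algebraMap K K₁).comp (algebraMap A K))
    have hfA : ∀ a', fA a' ∈ W₃ := fun a' => by
      show j₃ (algebraMap K₁ K₃ (algebraMap K K₁ (algebraMap A K a'))) ∈ W₃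
      rw [hchain₃, hAKL]; exact hW₃.1 _
    obtain ⟨P, hPmon, hP⟩ := haint
    refine mem_of_isIntegralElem W₃ fA hfA ⟨P, hPmon, ?_⟩
    have := Polynomial.hom_eval₂ P ((algebraMap K K₁).comp (algebraMap A K))
      (j₃.comp (algebraMap K₁ K₃)) a
    rw [hP, map_zero] at this
    exact this.symm
  -- the power basis of `M₂` over `F`
  have hnot : ∀ b : (L ⊗[K] K₁) ⧸ 𝔓₁, b ^ p ≠ κ a := by
    intro b hb
    obtain ⟨r, rfl⟩ := Ideal.Quotient.mk_surjective b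
    have hmem : r ^ p - (1 : L) ⊗ₜ[K] a ∈ 𝔓₁ := by
      rw [← Ideal.Quotient.eq_zero_iff_mem, map_sub, map_pow]
      exact sub_eq_zero.mpr hb
    exact not_pow_mem (K := K) (L := L) pb hdim a ha 𝔓₁ r hmem
  have hirr : Irreducible (X ^ p - C (κ a) : ((L ⊗[K] K₁) ⧸ 𝔓₁)[X]) :=
    X_pow_sub_C_irreducible_of_prime hp.out hnot
  have hmonic : (X ^ p - C (κ a) : ((L ⊗[K] K₁) ⧸ 𝔓₁)[X]).Monic :=
    monic_X_pow_sub_C _ hp.out.ne_zero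
  have hθ₂root : aeval θ₂ (X ^ p - C (κ a) : ((L ⊗[K] K₁) ⧸ 𝔓₁)[X]) = 0 := by
    rw [map_sub, map_pow, aeval_X, aeval_C, halgFM₂, hθ₂p, sub_self]
  have hθ₂int : IsIntegral ((L ⊗[K] K₁) ⧸ 𝔓₁) θ₂ :=
    ⟨X ^ p - C (κ a), hmonic, by rw [← aeval_def]; exact hθ₂root⟩
  have hminpoly : minpoly ((L ⊗[K] K₁) ⧸ 𝔓₁) θ₂ = X ^ p - C (κ a) :=
    (minpoly.eq_of_irreducible_of_monic hirr hθ₂root hmonic).symm
  have htop : Algebra.adjoin ((L ⊗[K] K₁) ⧸ 𝔓₁) {θ₂} = ⊤ := by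
    rw [eq_top_iff]
    intro x _
    obtain ⟨g, rfl⟩ := hexp x
    refine Subalgebra.sum_mem _ fun k _ => Subalgebra.mul_mem _ ?_
      (Subalgebra.pow_mem _ (Algebra.subset_adjoin (Set.mem_singleton _)) k)
    rw [← halgFM₂]
    exact Subalgebra.algebraMap_mem _ _
  obtain ⟨pbW, hpbWgen, hpbWdim⟩ : ∃ pbW : PowerBasis ((L ⊗[K] K₁) ⧸ 𝔓₁) ((L ⊗[K] K₂) ⧸ 𝔓₂),
      pbW.gen = θ₂ ∧ pbW.dim = p := by
    refine ⟨PowerBasis.ofAdjoinEqTop hθ₂int htop, PowerBasis.ofAdjoinEqTop_gen _ _, ?_⟩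
    rw [PowerBasis.ofAdjoinEqTop_dim, hminpoly, natDegree_X_pow_sub_C]
  -- `κ` on `K`
  have hκK : ∀ k : K, κ (algebraMap K K₁ k) =
      algebraMap L ((L ⊗[K] K₁) ⧸ 𝔓₁) (algebraMap K L k) := by
    intro k
    rw [hκ, one_tmul_algebraMap, ← Algebra.TensorProduct.algebraMap_apply]
    exact mk₁.commutes _
  have hBF : ∀ b : B, algebraMap B ((L ⊗[K] K₁) ⧸ 𝔓₁) b =
      algebraMap L ((L ⊗[K] K₁) ⧸ 𝔓₁) (algebraMap B L b) :=
    fun b => IsScalarTower.algebraMap_apply B L _ b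
  have hκπ : κ πK₁ = algebraMap B ((L ⊗[K] K₁) ⧸ 𝔓₁) (algebraMap A B πA) := by
    rw [hπK₁, hκK, hAKL, hBF]
  -- the bound
  have hboundW : ∀ x ∈ W₂, ∃ q : ((L ⊗[K] K₁) ⧸ 𝔓₁)[X], q.natDegree < p ∧
      (∀ i, q.coeff i ∈ W₁) ∧ ι₂ (κ πK₁ ^ n₀) * x = aeval θ₂ q := by
    have hinjBF : Function.Injective (algebraMap B ((L ⊗[K] K₁) ⧸ 𝔓₁)) := by
      rw [IsScalarTower.algebraMap_eq B L ((L ⊗[K] K₁) ⧸ 𝔓₁)]
      exact (algebraMap L ((L ⊗[K] K₁) ⧸ 𝔓₁)).injective.comp (IsFractionRing.injective B L)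
    haveI : FiniteDimensional L ((L ⊗[K] K₁) ⧸ 𝔓₁) :=
      Module.Finite.of_surjective (Ideal.Quotient.mkₐ L 𝔓₁).toLinearMap
        (Ideal.Quotient.mkₐ_surjective L 𝔓₁)
    have halgBF : ∀ x : (L ⊗[K] K₁) ⧸ 𝔓₁, ∃ q : B[X], q ≠ 0 ∧
        q.eval₂ (algebraMap B ((L ⊗[K] K₁) ⧸ 𝔓₁)) x = 0 := by
      intro x
      have : IsAlgebraic B x := (IsFractionRing.isAlgebraic_iff B L ((L ⊗[K] K₁) ⧸ 𝔓₁)).mpr
        (Algebra.IsAlgebraic.isAlgebraic x)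
      obtain ⟨q, hq0, hq⟩ := this
      exact ⟨q, hq0, by rw [← aeval_def]; exact hq⟩
    have hWB : ∀ b, algebraMap B ((L ⊗[K] K₁) ⧸ 𝔓₁) b ∈ W₁ := fun b => by
      rw [hBF, hmemW₁, ← hBL₃]; exact hW₃.1 b
    have hWBm : ∀ b ∈ maximalIdeal B,
        W₁.valuation (algebraMap B ((L ⊗[K] K₁) ⧸ 𝔓₁) b) < 1 := fun b hb => by
      rw [hBF, hvalW₁, ← hBL₃]; exact hW₃.2 b hb
    haveI : IsScalarTower B ((L ⊗[K] K₁) ⧸ 𝔓₁) ((L ⊗[K] K₂) ⧸ 𝔓₂) :=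
      IsScalarTower.of_algebraMap_eq (fun b => by
        rw [halgFM₂, hBF, IsScalarTower.algebraMap_apply B L ((L ⊗[K] K₂) ⧸ 𝔓₂)]
        exact (ι₂.commutes _).symm)
    have hN : ∀ y : (L ⊗[K] K₂) ⧸ 𝔓₂, IsIntegral B y → ∃ g : ℕ → (L ⊗[K] K₁) ⧸ 𝔓₁,
        (∀ k, IsIntegral B (g k)) ∧ (algebraMap A B πA) ^ n₀ • y =
          ∑ k ∈ Finset.range p,
            algebraMap ((L ⊗[K] K₁) ⧸ 𝔓₁) ((L ⊗[K] K₂) ⧸ 𝔓₂) (g k) * θ₂ ^ k := by
      intro y hy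
      obtain ⟨g, hg, hgy⟩ := hn₀ 𝔓₂ y hy
      refine ⟨fun k => mk₁ (g k), fun k => ?_, ?_⟩
      · have h1 : IsIntegral B (ι₂ (mk₁ (g k))) := hg k
        exact (isIntegral_algHom_iff (ι₂.restrictScalars B) ι₂.injective).mp h1
      · rw [hgy, hdim]
        rfl
    have hb := bound_of_integral p θ₂ W₁ hpow hinjBF halgBF hWB hWBm (algebraMap A B πA) n₀ hN
    intro x hx
    rw [hW₂] at hx
    obtain ⟨q, hq1, hq2, hq3⟩ := hb x hx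
    refine ⟨q, hq1, hq2, ?_⟩
    rw [← hq3, halgFM₂, hκπ]
  -- the root in `M₃`
  set cK₁ : K₁ := πK₁ ^ (n₀ * p + 2 * n₀ + 2) with hcK₁
  set θW : M₃ := j₃ θ' with hθW
  have hθWp : θW ^ p = ι₃ (κ cK₁) * θW + ι₃ (κ a) := by
    rw [hι₃κ, hι₃κ, hθW, ← map_pow, hθ', map_add, map_mul]
  have hcomp : (j₃.comp (algebraMap K₁ K₃)) = (ι₃ : _ →+* M₃).comp κ :=
    RingHom.ext fun k => (hι₃κ k).symm
  have hcomp₂ : (j₂.comp (algebraMap K₁ K₂)) = (ι₂ : _ →+* _).comp κ :=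
    RingHom.ext fun k => (hι₂κ k).symm
  have hj₃aeval : ∀ q : K₁[X], j₃ (aeval θ' q) = aeval θW (q.map κ) := by
    intro q
    rw [aeval_def, Polynomial.hom_eval₂, hcomp, ← Polynomial.eval₂_map, aeval_def]
    rfl
  have hj₂aeval : ∀ q : K₁[X], j₂ (aeval pb.gen q) = aeval θ₂ (q.map κ) := by
    intro q
    rw [aeval_def, Polynomial.hom_eval₂, hcomp₂, ← Polynomial.eval₂_map, aeval_def]
    rfl
  set fW : ((L ⊗[K] K₁) ⧸ 𝔓₁)[X] := X ^ p + -(C (κ cK₁) * X + C (κ a)) with hfW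
  have hfWdeg : (-(C (κ cK₁) * X + C (κ a)) : ((L ⊗[K] K₁) ⧸ 𝔓₁)[X]).degree < p := by
    rw [degree_neg]
    refine lt_of_le_of_lt (degree_add_le _ _) (max_lt ?_ ?_)
    · exact lt_of_le_of_lt (degree_C_mul_X_le _) (by exact_mod_cast hp.out.one_lt)
    · exact lt_of_le_of_lt degree_C_le (by exact_mod_cast hp.out.pos)
  have hfWmonic : fW.Monic := monic_X_pow_add hfWdeg
  have hfWnat : fW.natDegree = p := by
    rw [hfW, natDegree_add_eq_left_of_degree_lt, natDegree_X_pow]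
    rw [degree_X_pow]; exact hfWdeg
  have hfW1 : fW ≠ 1 := by
    intro h1
    rw [h1, natDegree_one] at hfWnat
    exact hp.out.ne_zero hfWnat.symm
  have hfWroot : aeval θW fW = 0 := by
    rw [hfW, map_add, map_pow, aeval_X, map_neg, map_add, map_mul, aeval_C, aeval_C, aeval_X,
      halgFM₃, halgFM₃, hθWp]
    ring
  have hgenM₃ : ∀ z : M₃, ∃ q : ((L ⊗[K] K₁) ⧸ 𝔓₁)[X], q.natDegree < p ∧ z = aeval θW q := by
    have key : ∀ z : M₃, ∃ q : ((L ⊗[K] K₁) ⧸ 𝔓₁)[X], z = aeval θW q := by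
      intro z
      have hz : z ∈ Algebra.adjoin L (Set.range (algebraMap K₃ M₃)) := by rw [hgen]; trivial
      induction hz using Algebra.adjoin_induction with
      | mem x hx =>
        obtain ⟨k₃, rfl⟩ := hx
        obtain ⟨q₀, -, rfl⟩ := hgenK₃ k₃
        exact ⟨q₀.map κ, hj₃aeval q₀⟩
      | algebraMap l =>
        refine ⟨C (algebraMap L ((L ⊗[K] K₁) ⧸ 𝔓₁) l), ?_⟩
        rw [aeval_C, halgFM₃]
        exact (ι₃.commutes l).symm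
      | add x y _ _ hx hy =>
        obtain ⟨q, rfl⟩ := hx
        obtain ⟨q', rfl⟩ := hy
        exact ⟨q + q', (map_add _ _ _).symm⟩
      | mul x y _ _ hx hy =>
        obtain ⟨q, rfl⟩ := hx
        obtain ⟨q', rfl⟩ := hy
        exact ⟨q * q', (map_mul _ _ _).symm⟩
    intro z
    obtain ⟨q, rfl⟩ := key z
    obtain ⟨q', hq'deg, hq'⟩ := exists_rep_lt hfWmonic hfW1 hfWroot q
    exact ⟨q', by rw [← hfWnat]; exact hq'deg, hq'.symm⟩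
  have hϖVmem : ϖV ∈ maximalIdeal (W₂.comap j₂) := by
    rw [hϖV]; exact Ideal.mem_span_singleton_self ϖV
  have hϖVval : (W₂.comap j₂).valuation (ϖV : K₂) < 1 :=
    ((W₂.comap j₂).valuation_lt_one_iff ϖV).mp hϖVmem
  -- the data upstairs
  have dW : XData p pbW θW W₂ W₃ (κ a) (κ cK₁) (κ πK₁) (j₂ (ϖV : K₂)) n₀ 2 :=
    { hdim := hpbWdim
      hθ := by rw [hpbWgen, halgFM₂]; exact hθ₂p
      hθ' := hθWp
      hcomap := fun f => (hmemW₂ f).trans (hmemW₁ f)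
      ha := haW₃
      hπ0 := (_root_.map_ne_zero κ).mpr hπK₁0
      hπ := hvπ
      hc := ⟨1, by rw [map_one]; exact W₃.one_mem, by rw [mul_one, hcK₁, map_pow]⟩
      hN := le_refl 2
      hbound := by
        intro x hx
        obtain ⟨q, hq1, hq2, hq3⟩ := hboundW x hx
        exact ⟨q, hq1, fun i => (hmemW₁ _).mp (hq2 i), by rw [hpbWgen]; exact hq3⟩
      hϖ₂ := ϖV.2
      hϖ₂v := (Epp.comap_valuation_lt_one_iff j₂ W₂ (ϖV : K₂)).mp hϖVval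
      hdec := hdecW
      hgen₃ := hgenM₃ }
  have dV : XData p pb θ' (W₂.comap j₂) (W₃.comap j₃) a cK₁ πK₁ (ϖV : K₂) n₀ 2 :=
    { hdim := hdim
      hθ := ha
      hθ' := hθ'
      hcomap := fun f => by
        show j₂ (algebraMap K₁ K₂ f) ∈ W₂ ↔ j₃ (algebraMap K₁ K₃ f) ∈ W₃
        rw [← hι₂κ, ← hι₃κ, hmemW₂, hmemW₁]
      ha := by
        show j₃ (algebraMap K₁ K₃ a) ∈ W₃
        rw [← hι₃κ]; exact haW₃
      hπ0 := hπK₁0
      hπ := by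
        rw [Epp.comap_valuation_lt_one_iff, ← hι₃κ]; exact hvπ
      hc := ⟨1, by rw [map_one]; exact (W₃.comap j₃).one_mem, by rw [mul_one]⟩
      hN := le_refl 2
      hbound := by
        intro x hx
        obtain ⟨q₀, hq₀deg, rfl⟩ := pb.exists_eq_aeval x
        rw [hdim] at hq₀deg
        obtain ⟨qW, hqW1, hqW2, hqW3⟩ := hboundW (j₂ (aeval pb.gen q₀)) hx
        set q : K₁[X] := C (πK₁ ^ n₀) * q₀ with hq
        have hqdeg : q.natDegree < p :=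
          lt_of_le_of_lt (natDegree_C_mul_le _ _) hq₀deg
        have hqmapdeg : (q.map κ).natDegree < pbW.dim := by
          rw [hpbWdim]; exact lt_of_le_of_lt natDegree_map_le hqdeg
        have hqWdeg : qW.natDegree < pbW.dim := by rw [hpbWdim]; exact hqW1
        have hqeq : algebraMap K₁ K₂ (πK₁ ^ n₀) * aeval pb.gen q₀ = aeval pb.gen q := by
          rw [hq, map_mul, aeval_C]
        have h1 : aeval pbW.gen (q.map κ) = aeval pbW.gen qW := by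
          rw [hpbWgen, ← hqW3, ← hj₂aeval, ← hqeq, map_mul, ← hι₂κ, map_pow κ]
        have h2 : q.map κ = qW := eq_of_aeval_eq pbW hqmapdeg hqWdeg h1
        refine ⟨q, hqdeg, fun i => ?_, hqeq⟩
        show j₃ (algebraMap K₁ K₃ (q.coeff i)) ∈ W₃
        rw [← hι₃κ, ← hmemW₁, ← coeff_map, h2]
        exact hqW2 i
      hϖ₂ := ϖV.2
      hϖ₂v := hϖVval
      hdec := hdecV'
      hgen₃ := hgenK₃ }
  have hcompat : ∀ x : K₂, Phi pbW θW (j₂ x) = j₃ (Phi pb θ' x) := by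
    intro x
    obtain ⟨q, hqdeg, rfl⟩ := pb.exists_eq_aeval x
    have hqmapdeg : (q.map κ).natDegree < pbW.dim := by
      rw [hpbWdim, ← hdim]; exact lt_of_le_of_lt natDegree_map_le hqdeg
    rw [hj₂aeval, ← hpbWgen, Phi_aeval pbW θW _ hqmapdeg, Phi_aeval pb θ' q hqdeg, hj₃aeval]
  exact transfer j₂ j₃ W₂ W₃ dV dW hcompat hgr₂

end Groth.Agent.Lib.Helper18.SepSol
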