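import Mathlib
import Groth.Prelude.Def_EtRam
import Groth.Prelude.Def_Found
import Groth.Agent.Lib.Helper18.SepSol.Place
import Groth.Agent.Lib.Helper18.Epp.Field

/-! # Replacing a purely inseparable degree `p` step by a separable extension -/

set_option autoImplicit false
set_option linter.style.haveILetI false

namespace Groth.Agent.Lib.Helper18.SepSol

open Polynomial IsLocalRing TensorProduct IntermediateField

universe u

/-- A scaled generator of the purely inseparable degree `p` extension `K₂/K₁` whose `p`-th power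
is integral over `A`. -/
theorem exists_generator {p : ℕ} (hp : p.Prime) {A K K₁ K₂ : Type u}
    [CommRing A] [IsDomain A] [IsDiscreteValuationRing A]
    [Field K] [Algebra A K] [IsFractionRing A K]
    [Field K₁] [Field K₂] [Algebra K K₁] [Algebra K₁ K₂]
    [FiniteDimensional K K₁] [FiniteDimensional K₁ K₂]
    [IsPurelyInseparable K₁ K₂] (hdeg : Module.finrank K₁ K₂ = p) :
    ∃ (pb : PowerBasis K₁ K₂) (a : K₁), pb.dim = p ∧ pb.gen ^ p = algebraMap K₁ K₂ a ∧
      ((algebraMap K K₁).comp (algebraMap A K)).IsIntegralElem a := by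
  classical
  obtain ⟨πA, hπA⟩ := IsDiscreteValuationRing.exists_irreducible A
  -- an element outside `K₁`
  have hne : ∃ θ₀ : K₂, θ₀ ∉ Set.range (algebraMap K₁ K₂) := by
    by_contra hall
    push_neg at hall
    have hsurj : Function.Surjective (algebraMap K₁ K₂) := hall
    have h1 : (⊤ : Subalgebra K₁ K₂) = ⊥ := Algebra.surjective_algebraMap_iff.mp hsurj
    have h2 : Module.finrank K₁ K₂ = 1 := Subalgebra.bot_eq_top_iff_finrank_eq_one.mp h1.symm
    rw [hdeg] at h2
    exact hp.one_lt.ne' h2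
  obtain ⟨θ₀, hθ₀⟩ := hne
  obtain ⟨a₀, ha₀⟩ := Epp.pow_mem_range hp hdeg θ₀
  letI algAK₁ : Algebra A K₁ := ((algebraMap K K₁).comp (algebraMap A K)).toAlgebra
  haveI : IsScalarTower A K K₁ := IsScalarTower.of_algebraMap_eq fun _ => rfl
  have halg : IsAlgebraic A a₀ :=
    (IsFractionRing.isAlgebraic_iff A K K₁).mpr (Algebra.IsAlgebraic.isAlgebraic a₀)
  obtain ⟨m, hm⟩ := exists_pow_smul_integral hπA halg
  set s : K₁ := algebraMap A K₁ (πA ^ m) with hs
  have hs0 : s ≠ 0 := by
    rw [hs]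
    intro h0
    have hinj : Function.Injective (algebraMap A K₁) := by
      rw [IsScalarTower.algebraMap_eq A K K₁]
      exact (algebraMap K K₁).injective.comp (IsFractionRing.injective A K)
    exact pow_ne_zero m hπA.ne_zero (hinj (h0.trans (map_zero _).symm))
  have hsint : IsIntegral A s := isIntegral_algebraMap
  have hsa : IsIntegral A (s * a₀) := by
    have : s * a₀ = πA ^ m • a₀ := by rw [hs, Algebra.smul_def]
    rw [this]; exact hm
  set θ : K₂ := algebraMap K₁ K₂ s * θ₀ with hθ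
  set a : K₁ := s ^ p * a₀ with ha
  have hθp : θ ^ p = algebraMap K₁ K₂ a := by
    rw [hθ, ha, mul_pow, ← ha₀, map_mul, map_pow]
  have haint : IsIntegral A a := by
    have : a = s ^ (p - 1) * (s * a₀) := by
      rw [ha, ← mul_assoc, ← pow_succ, Nat.sub_add_cancel hp.one_le]
    rw [this]
    exact (hsint.pow _).mul hsa
  have hθnot : θ ∉ Set.range (algebraMap K₁ K₂) := by
    rintro ⟨x, hx⟩
    apply hθ₀
    refine ⟨s⁻¹ * x, ?_⟩
    rw [map_mul, hx, hθ, ← mul_assoc, ← map_mul, inv_mul_cancel₀ hs0, map_one, one_mul]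
  haveI : IsSimpleOrder (IntermediateField K₁ K₂) :=
    isSimpleOrder_of_finrank_prime K₁ K₂ (by rw [hdeg]; exact hp)
  have htop : K₁⟮θ⟯ = ⊤ := by
    rcases eq_bot_or_eq_top K₁⟮θ⟯ with h | h
    · exfalso
      have : θ ∈ (⊥ : IntermediateField K₁ K₂) := by rw [← h]; exact mem_adjoin_simple_self K₁ θ
      exact hθnot (IntermediateField.mem_bot.mp this)
    · exact h
  have hθint : IsIntegral K₁ θ := Algebra.IsIntegral.isIntegral θ
  have htop' : Algebra.adjoin K₁ {θ} = ⊤ := by
    have h1 := adjoin_simple_toSubalgebra_of_isAlgebraic hθint.isAlgebraic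
    rw [htop] at h1
    exact h1.symm
  set pb : PowerBasis K₁ K₂ := PowerBasis.ofAdjoinEqTop hθint htop' with hpb
  have hdim : pb.dim = p := by rw [← pb.finrank, hdeg]
  have hgen : pb.gen = θ := by rw [hpb, PowerBasis.ofAdjoinEqTop_gen]
  exact ⟨pb, a, hdim, by rw [hgen]; exact hθp, haint⟩

/-- The main theorem: a purely inseparable step of degree `p` on top of `K₁` can be replaced by
a finite separable extension of `K₁` which is still a solution. -/
theorem exists_separable_solution (p : ℕ) (hp : p.Prime) (A B K L : Type u)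
    [CommRing A] [IsDomain A] [IsDiscreteValuationRing A] [CommRing B] [IsDomain B]
    [IsDiscreteValuationRing B]
    [Algebra A B] [IsLocalHom (algebraMap A B)]
    [Field K] [Field L] [Algebra A K] [IsFractionRing A K] [Algebra B L] [IsFractionRing B L]
    [Algebra K L] [Algebra A L] [IsScalarTower A K L] [IsScalarTower A B L] [CharP K p]
    [Algebra.IsGeometricallyReduced K L] (hB : CAlg.IsNagata B)
    (K₁ K₂ : Type u) [Field K₁] [Field K₂] [Algebra K K₁] [Algebra K K₂] [Algebra K₁ K₂]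
    [IsScalarTower K K₁ K₂]
    [FiniteDimensional K K₁] [FiniteDimensional K₁ K₂] (hsol : EtRam.IsSolution B K L K₂)
    [IsPurelyInseparable K₁ K₂] (hdeg : Module.finrank K₁ K₂ = p) :
    ∃ (K₃ : Type u) (_ : Field K₃) (_ : Algebra K K₃) (_ : Algebra K₁ K₃)
      (_ : IsScalarTower K K₁ K₃),
      FiniteDimensional K₁ K₃ ∧ Algebra.IsSeparable K₁ K₃ ∧ EtRam.IsSolution B K L K₃ := by
  classical
  haveI : Fact p.Prime := ⟨hp⟩
  haveI : FiniteDimensional K K₂ := Module.Finite.trans K₁ K₂
  haveI : CharP K₁ p := charP_of_injective_algebraMap (algebraMap K K₁).injective p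
  obtain ⟨pb, a, hdim, hgenp, haint⟩ := exists_generator (A := A) (K := K) hp hdeg
  obtain ⟨πA, hπA⟩ := IsDiscreteValuationRing.exists_irreducible A
  obtain ⟨πB, hπB⟩ := IsDiscreteValuationRing.exists_irreducible B
  -- the uniform Nagata bound
  obtain ⟨n₀, hn₁⟩ := exists_bound (K := K) (L := L) hB hπB pb
  have hπAB : ∃ b₁ : B, algebraMap A B πA = πB * b₁ := by
    have hmem : algebraMap A B πA ∈ maximalIdeal B := by
      rw [mem_maximalIdeal, mem_nonunits_iff]
      intro hu
      exact hπA.not_isUnit (isUnit_of_map_unit (algebraMap A B) πA hu)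
    rw [(IsDiscreteValuationRing.irreducible_iff_uniformizer πB).mp hπB,
      Ideal.mem_span_singleton] at hmem
    exact hmem
  obtain ⟨b₁, hb₁⟩ := hπAB
  have hn₀ : ∀ (𝔓 : Ideal (L ⊗[K] K₂)) [𝔓.IsMaximal] (y : (L ⊗[K] K₂) ⧸ 𝔓),
      IsIntegral B y → (algebraMap A B πA) ^ n₀ • y ∈ NSub (B := B) pb 𝔓 := by
    intro 𝔓 _ y hy
    have h1 := hn₁ 𝔓 y hy
    have : (algebraMap A B πA) ^ n₀ • y = b₁ ^ n₀ • (πB ^ n₀ • y) := by
      rw [hb₁, mul_pow, mul_comm, mul_smul]
    rw [this]
    exact Submodule.smul_mem _ _ h1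
  -- the Artin–Schreier-like polynomial
  set πK₁ : K₁ := algebraMap K K₁ (algebraMap A K πA) with hπK₁
  have hπK₁0 : πK₁ ≠ 0 := by
    rw [hπK₁]
    intro h0
    have h1 : algebraMap A K πA = 0 := (algebraMap K K₁).injective (h0.trans (map_zero _).symm)
    exact hπA.ne_zero (IsFractionRing.injective A K (h1.trans (map_zero _).symm))
  set c : K₁ := πK₁ ^ (n₀ * p + 2 * n₀ + 2) with hc
  have hc0 : c ≠ 0 := pow_ne_zero _ hπK₁0
  set f : K₁[X] := X ^ p + -(C c * X + C a) with hf
  have hp2 : 2 ≤ p := hp.two_le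
  have hfdeg : (-(C c * X + C a)).degree < (p : WithBot ℕ) := by
    rw [degree_neg]
    refine lt_of_le_of_lt (degree_add_le _ _) (max_lt ?_ ?_)
    · refine lt_of_le_of_lt (degree_C_mul_X_le c) ?_
      exact_mod_cast hp.one_lt
    · refine lt_of_le_of_lt degree_C_le ?_
      exact_mod_cast hp.pos
  have hfmonic : f.Monic := monic_X_pow_add hfdeg
  have hfnat : f.natDegree = p := by
    rw [hf, natDegree_add_eq_left_of_degree_lt, natDegree_X_pow]
    rw [degree_X_pow]; exact hfdeg
  have hf1 : f ≠ 1 := by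
    intro h1
    rw [h1, natDegree_one] at hfnat
    omega
  have hfsep : f.Separable := by
    rw [separable_def]
    have hder : derivative f = -C c := by
      rw [hf, derivative_add, derivative_neg, derivative_add, derivative_C, add_zero,
        derivative_C_mul, derivative_X, mul_one, derivative_X_pow, CharP.cast_eq_zero K₁ p,
        C_0, zero_mul, zero_add]
    rw [hder]
    refine ⟨0, -C c⁻¹, ?_⟩
    rw [zero_mul, zero_add, neg_mul_neg, ← C_mul, inv_mul_cancel₀ hc0, C_1]
  obtain ⟨f₀, hf₀irr, hf₀dvd⟩ :=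
    exists_irreducible_of_natDegree_pos (f := f) (by rw [hfnat]; exact hp.pos)
  haveI : Fact (Irreducible f₀) := ⟨hf₀irr⟩
  have hf₀0 : f₀ ≠ 0 := hf₀irr.ne_zero
  set θ' : AdjoinRoot f₀ := AdjoinRoot.root f₀ with hθ'def
  have hroot : aeval θ' f = 0 := by
    obtain ⟨g, hg⟩ := hf₀dvd
    rw [hg, map_mul, AdjoinRoot.aeval_eq, AdjoinRoot.mk_self, zero_mul]
  have hθ' : θ' ^ p = algebraMap K₁ (AdjoinRoot f₀) c * θ' + algebraMap K₁ (AdjoinRoot f₀) a := by
    have h := hroot
    rw [hf, map_add, map_neg, map_add, map_mul, map_pow, aeval_X, aeval_C, aeval_C] at h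
    linear_combination h
  have hgenK₃ : ∀ z : AdjoinRoot f₀, ∃ q : K₁[X], q.natDegree < p ∧ z = aeval θ' q := by
    intro z
    obtain ⟨q₁, rfl⟩ := AdjoinRoot.mk_surjective z
    obtain ⟨q, hq1, hq2⟩ := exists_rep_lt hfmonic hf1 hroot q₁
    refine ⟨q, by rw [← hfnat]; exact hq1, ?_⟩
    rw [hq2, AdjoinRoot.aeval_eq]
  let pb₃ : PowerBasis K₁ (AdjoinRoot f₀) := AdjoinRoot.powerBasis hf₀0
  have hfin : FiniteDimensional K₁ (AdjoinRoot f₀) := pb₃.finite
  have hsep : Algebra.IsSeparable K₁ (AdjoinRoot f₀) := by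
    have hθint : IsIntegral K₁ θ' := ⟨f, hfmonic, by rw [← aeval_def]; exact hroot⟩
    have hsepθ : IsSeparable K₁ θ' := hfsep.of_dvd (minpoly.dvd K₁ θ' hroot)
    haveI : Algebra.IsSeparable K₁ (IntermediateField.adjoin K₁ ({θ'} : Set (AdjoinRoot f₀))) :=
      (IntermediateField.isSeparable_adjoin_simple_iff_isSeparable K₁ _).mpr hsepθ
    have htop : IntermediateField.adjoin K₁ ({θ'} : Set (AdjoinRoot f₀)) = ⊤ := by
      apply IntermediateField.toSubalgebra_injective
      rw [IntermediateField.top_toSubalgebra, eq_top_iff, ← AdjoinRoot.adjoinRoot_eq_top]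
      exact IntermediateField.algebra_adjoin_le_adjoin K₁ _
    exact AlgEquiv.Algebra.isSeparable
      ((IntermediateField.equivOfEq htop).trans IntermediateField.topEquiv)
  refine ⟨AdjoinRoot f₀, inferInstance, inferInstance, inferInstance, inferInstance, hfin, hsep, ?_⟩
  intro M₃ _ _ _ _ _ _ hgen W₃ hW₃
  exact place_step hsol pb hdim a hgenp haint πA hπA n₀ hn₀ θ' hθ' hgenK₃ M₃ hgen W₃ hW₃

end Groth.Agent.Lib.Helper18.SepSol
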