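import Mathlib
import Groth.Prelude.Def_EtRam
import Groth.Prelude.Def_Found
import Groth.Agent.Lib.Helper18.SepSol.Main
import Groth.Agent.Lib.Helper18.Unram.Assemble

/-! # From a solution to a separable solution -/

set_option autoImplicit false
set_option linter.style.haveILetI false

namespace Groth.Agent.Lib.Helper18.SepSol

open Polynomial IsLocalRing TensorProduct IntermediateField

universe u

/-- A finite purely inseparable extension of degree `≠ 1` has an intermediate field of
codegree `p`. -/
theorem exists_codegree {p : ℕ} (hp : p.Prime) :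
    ∀ (n : ℕ) (F E : Type u) [Field F] [Field E] [Algebra F E] [CharP F p]
      [FiniteDimensional F E] [IsPurelyInseparable F E],
      Module.finrank F E = n → n ≠ 1 → ∃ K₁ : IntermediateField F E, Module.finrank K₁ E = p := by
  intro n
  induction n using Nat.strong_induction_on with
  | _ n ih =>
    intro F E _ _ _ _ _ _ hn hn1
    haveI : Fact p.Prime := ⟨hp⟩
    haveI : ExpChar F p := ExpChar.prime hp
    -- an element outside `F`
    have hne : ∃ x : E, x ∉ (algebraMap F E).range := by
      by_contra hall
      push_neg at hall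
      have hsurj : Function.Surjective (algebraMap F E) := fun x => hall x
      have h1 : (⊤ : Subalgebra F E) = ⊥ := Algebra.surjective_algebraMap_iff.mp hsurj
      have h2 : Module.finrank F E = 1 := Subalgebra.bot_eq_top_iff_finrank_eq_one.mp h1.symm
      exact hn1 (hn ▸ h2)
    obtain ⟨x, hx⟩ := hne
    have hex : ∃ m, x ^ p ^ m ∈ (algebraMap F E).range := IsPurelyInseparable.pow_mem F p x
    classical
    set m := Nat.find hex with hm
    have hmspec : x ^ p ^ m ∈ (algebraMap F E).range := Nat.find_spec hex
    have hm0 : m ≠ 0 := by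
      intro h0
      rw [h0, pow_zero, pow_one] at hmspec
      exact hx hmspec
    obtain ⟨m', hm'⟩ : ∃ m', m = m' + 1 := ⟨m - 1, by omega⟩
    set z : E := x ^ p ^ m' with hz
    have hznot : z ∉ (algebraMap F E).range := Nat.find_min hex (by omega : m' < m)
    have hzp : z ^ p ∈ (algebraMap F E).range := by
      rw [hz, ← pow_mul, ← pow_succ, ← hm']; exact hmspec
    obtain ⟨a, ha⟩ := hzp
    have hzint : IsIntegral F z := Algebra.IsIntegral.isIntegral z
    have hzbot : F⟮z⟯ ≠ ⊥ := by
      intro h
      rw [adjoin_simple_eq_bot_iff, IntermediateField.mem_bot] at h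
      exact hznot h
    have hmul : Module.finrank F F⟮z⟯ * Module.finrank F⟮z⟯ E = Module.finrank F E :=
      Module.finrank_mul_finrank F F⟮z⟯ E
    have hpos1 : 0 < Module.finrank F F⟮z⟯ := Module.finrank_pos
    have hpos2 : 0 < Module.finrank F⟮z⟯ E := Module.finrank_pos
    have hne1 : Module.finrank F F⟮z⟯ ≠ 1 := fun h => hzbot (IntermediateField.finrank_eq_one_iff.mp h)
    by_cases htop : Module.finrank F⟮z⟯ E = 1
    · -- then `[E : F] ≤ p`
      refine ⟨⊥, ?_⟩
      rw [finrank_bot']
      have h1 : Module.finrank F E = (minpoly F z).natDegree := by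
        rw [← hmul, htop, mul_one, adjoin.finrank hzint]
      have hdvd : minpoly F z ∣ X ^ p - C a := by
        apply minpoly.dvd
        rw [map_sub, map_pow, aeval_X, aeval_C, ha, sub_self]
      have hle : (minpoly F z).natDegree ≤ p := by
        have := natDegree_le_of_dvd hdvd (X_pow_sub_C_ne_zero hp.pos a)
        rwa [natDegree_X_pow_sub_C] at this
      obtain ⟨k, hk⟩ := IsPurelyInseparable.finrank_eq_pow F E p
      have hk0 : k ≠ 0 := by
        rintro rfl
        rw [pow_zero] at hk
        exact hn1 (hn ▸ hk)
      have hge : p ≤ Module.finrank F E := by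
        rw [hk]
        calc p = p ^ 1 := (pow_one p).symm
          _ ≤ p ^ k := Nat.pow_le_pow_right hp.pos (Nat.one_le_iff_ne_zero.mpr hk0)
      omega
    · -- induction
      haveI : CharP F⟮z⟯ p := charP_of_injective_algebraMap (algebraMap F F⟮z⟯).injective p
      haveI : IsPurelyInseparable F⟮z⟯ E := IsPurelyInseparable.tower_top F F⟮z⟯ E
      have hlt : Module.finrank F⟮z⟯ E < n := by
        rw [← hn, ← hmul]
        have h2 : 2 ≤ Module.finrank F F⟮z⟯ := by omega
        nlinarith
      obtain ⟨K₁', hK₁'⟩ := ih _ hlt F⟮z⟯ E rfl htop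
      exact ⟨K₁'.restrictScalars F, hK₁'⟩


section MainInduction

/-- In characteristic `p`: from a solution to a separable solution, by induction on the
inseparable degree. -/
theorem exists_separable_of_solution_charP (p : ℕ) (hp : p.Prime) (A B K L : Type u)
    [CommRing A] [IsDomain A] [IsDiscreteValuationRing A] [CommRing B] [IsDomain B]
    [IsDiscreteValuationRing B]
    [Algebra A B] [IsLocalHom (algebraMap A B)]
    [Field K] [Field L] [Algebra A K] [IsFractionRing A K] [Algebra B L] [IsFractionRing B L]
    [Algebra K L] [Algebra A L] [IsScalarTower A K L] [IsScalarTower A B L] [CharP K p]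
    [Algebra.IsGeometricallyReduced K L] (hB : CAlg.IsNagata B) :
    ∀ (n : ℕ) (K₂ : Type u) [Field K₂] [Algebra K K₂] [FiniteDimensional K K₂],
      EtRam.IsSolution B K L K₂ → Field.finInsepDegree K K₂ = n →
      ∃ (K₃ : Type u) (_ : Field K₃) (_ : Algebra K K₃) (_ : FiniteDimensional K K₃)
        (_ : Algebra.IsSeparable K K₃), EtRam.IsSolution B K L K₃ := by
  intro n
  induction n using Nat.strong_induction_on with
  | _ n ih =>
    intro K₂ _ _ _ h₂ hn
    by_cases hn1 : n = 1
    · have hsep : Algebra.IsSeparable K K₂ := by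
        rw [isSeparable_iff_finInsepDegree_eq_one, hn, hn1]
      exact ⟨K₂, inferInstance, inferInstance, inferInstance, hsep, h₂⟩
    haveI : Algebra.IsAlgebraic K K₂ := Algebra.IsAlgebraic.of_finite K K₂
    set S : IntermediateField K K₂ := separableClosure K K₂ with hS
    haveI : IsPurelyInseparable S K₂ := separableClosure.isPurelyInseparable K K₂
    haveI : CharP S p := charP_of_injective_algebraMap (algebraMap K S).injective p
    have hfin : Module.finrank S K₂ = n := hn
    obtain ⟨K₁', hK₁'⟩ := exists_codegree hp n S K₂ hfin hn1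
    haveI : IsPurelyInseparable K₁' K₂ := IsPurelyInseparable.tower_top S K₁' K₂
    set K₁ : IntermediateField K K₂ := K₁'.restrictScalars K with hK₁
    haveI : IsPurelyInseparable K₁ K₂ := ‹IsPurelyInseparable K₁' K₂›
    have hdeg : Module.finrank K₁ K₂ = p := hK₁'
    obtain ⟨K₃, fK₃, aKK₃, aK₁K₃, tow, hfd, hsep, hsol⟩ :=
      exists_separable_solution p hp A B K L hB K₁ K₂ h₂ hdeg
    haveI : FiniteDimensional K K₃ := Module.Finite.trans K₁ K₃
    haveI : Algebra.IsAlgebraic K K₁ := Algebra.IsAlgebraic.of_finite K K₁
    have h1 : Field.finInsepDegree K K₁ * Field.finInsepDegree K₁ K₃ = Field.finInsepDegree K K₃ :=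
      Field.finInsepDegree_mul_finInsepDegree_of_isAlgebraic K K₁ K₃
    have h2 : Field.finInsepDegree K K₁ * Field.finInsepDegree K₁ K₂ = Field.finInsepDegree K K₂ :=
      Field.finInsepDegree_mul_finInsepDegree_of_isAlgebraic K K₁ K₂
    rw [Algebra.IsSeparable.finInsepDegree_eq K₁ K₃, mul_one] at h1
    rw [IsPurelyInseparable.finInsepDegree_eq K₁ K₂, hdeg, hn] at h2
    have hnpos : 0 < n := by rw [← hfin]; exact Module.finrank_pos
    have hlt : Field.finInsepDegree K K₃ < n := by
      rw [← h1, ← h2]
      have hp2 := hp.two_le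
      have hpos : 0 < Field.finInsepDegree K K₁ := by
        rcases Nat.eq_zero_or_pos (Field.finInsepDegree K K₁) with h0 | h0
        · rw [h0, zero_mul] at h2; omega
        · exact h0
      nlinarith
    exact ih _ hlt K₃ hsol rfl

end MainInduction

/-- From a solution to a separable solution. -/
theorem exists_separable_of_solution (A B K L : Type u)
    [CommRing A] [IsDomain A] [IsDiscreteValuationRing A] [CommRing B] [IsDomain B]
    [IsDiscreteValuationRing B]
    [Algebra A B] [IsLocalHom (algebraMap A B)]
    [Field K] [Field L] [Algebra A K] [IsFractionRing A K] [Algebra B L] [IsFractionRing B L]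
    [Algebra K L] [Algebra A L] [IsScalarTower A K L] [IsScalarTower A B L]
    [Algebra.IsSeparable K L] (hB : CAlg.IsNagata B)
    (K₂ : Type u) [Field K₂] [Algebra K K₂] [FiniteDimensional K K₂]
    (h₂ : EtRam.IsSolution B K L K₂) :
    ∃ (K₃ : Type u) (_ : Field K₃) (_ : Algebra K K₃) (_ : FiniteDimensional K K₃)
      (_ : Algebra.IsSeparable K K₃), EtRam.IsSolution B K L K₃ := by
  haveI : Algebra.IsGeometricallyReduced K L :=
    (Algebra.isGeometricallyReduced_field_iff K L).mpr Unram.isReduced_field_tensor_of_isSeparable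
  obtain ⟨q, hq⟩ := ExpChar.exists K
  cases hq with
  | zero =>
    haveI : Algebra.IsAlgebraic K K₂ := Algebra.IsAlgebraic.of_finite K K₂
    exact ⟨K₂, inferInstance, inferInstance, inferInstance,
      Algebra.IsAlgebraic.isSeparable_of_perfectField, h₂⟩
  | prime hprime =>
    exact exists_separable_of_solution_charP q hprime A B K L hB _ K₂ h₂ rfl

end Groth.Agent.Lib.Helper18.SepSol
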